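import Mathlib
import Cfsg.Agent.Lib.Forms.Max.Symp

/-!
# Elements of the unipotent radical of a point stabiliser in symplectic groups of characteristic two
-/

set_option autoImplicit false
set_option linter.unusedSectionVars false

namespace Cfsg.Agent.Forms.Max.TwoRoot

open Matrix Cfsg.Agent.Aschbacher Cfsg.Agent.Forms.SympStd Cfsg.Agent.Forms.Max

variable {F : Type*} [Field F] [CharP F 2] {m : ℕ}

local notation "Vec" => (Fin m ⊕ Fin m → F)
local notation "GLm" => GL (Fin m ⊕ Fin m) F
local notation "B" => sympB m F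
local notation "Mat" => Matrix (Fin m ⊕ Fin m) (Fin m ⊕ Fin m) F

theorem B_comm (u v : Vec) : B v u = B u v := by rw [Symp.B_swap u v, CharTwo.neg_eq]

/-- the element `x ↦ x + f(x,c) w + f(x,w) c + α f(x,c) c`, for `f(c,w) = 0` -/
noncomputable def el (c w : Vec) (α : F) : GLm :=
  spTrv w 1 * spTrv (c + w) 1 * spTrv c (α + 1)

theorem el_mem (c w : Vec) (α : F) : el c w α ∈ Cfsg.spGL m F :=
  mul_mem (mul_mem (spTrv_mem _ _) (spTrv_mem _ _)) (spTrv_mem _ _)

theorem el_apply {c w : Vec} (h : B c w = 0) (α : F) (x : Vec) :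
    (el c w α : Mat) *ᵥ x = x + B x c • w + B x w • c + (α * B x c) • c := by
  have h' : B w c = 0 := by rw [B_comm]; exact h
  simp only [el, mulVec_mul_GL, Symp.spTrv_apply, map_add, map_smul, LinearMap.add_apply,
    LinearMap.smul_apply, smul_eq_mul, h, h', Symp.B_self, mul_zero, add_zero]
  match_scalars <;> ring_nf <;> simp [CharTwo.two_eq_zero]

theorem el_zero (c : Vec) (α : F) : el c 0 α = spTrv c α :=
  gl_ext fun x => by
    rw [el_apply (map_zero _), Symp.spTrv_apply, map_zero]
    simp

theorem spTrv_zero' (c : Vec) : spTrv c (0 : F) = 1 :=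
  gl_ext fun x => by simp [Symp.spTrv_apply]

theorem spTrv_add (c : Vec) (α β : F) : spTrv c α * spTrv c β = spTrv c (α + β) :=
  gl_ext fun x => by
    simp only [mulVec_mul_GL, Symp.spTrv_apply, map_add, map_smul, LinearMap.add_apply,
      LinearMap.smul_apply, smul_eq_mul, Symp.B_self]
    module

theorem el_mul {c w w' : Vec} (h : B c w = 0) (h' : B c w' = 0) (α β : F) :
    el c w α * el c w' β = el c (w + w') (α + β + B w' w) := by
  have h2 : B c (w + w') = 0 := by rw [map_add, h, h', add_zero]
  have e : B w' c = 0 := by rw [B_comm]; exact h'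
  refine gl_ext fun x => ?_
  rw [mulVec_mul_GL, el_apply h', el_apply h, el_apply h2]
  simp only [map_add, map_smul, LinearMap.add_apply, LinearMap.smul_apply, smul_eq_mul, e, h,
    Symp.B_self, mul_zero, add_zero]
  module

theorem el_smul {c w : Vec} (h : B c w = 0) (t α : F) :
    el (t • c) w α = el c (t • w) (t * t * α) := by
  refine gl_ext fun x => ?_
  rw [el_apply (by rw [map_smul, LinearMap.smul_apply, h, smul_zero]), el_apply (by rw [map_smul, h, smul_zero])]
  simp only [map_smul, smul_eq_mul]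
  module

theorem el_add_self {c w : Vec} (h : B c w = 0) (s α : F) : el c (w + s • c) α = el c w α := by
  refine gl_ext fun x => ?_
  rw [el_apply h, el_apply (by rw [map_add, map_smul, h, Symp.B_self, smul_zero, add_zero])]
  simp only [map_add, map_smul, smul_eq_mul]
  match_scalars
  · ring
  · ring
  · linear_combination (s * B x c) * CharTwo.two_eq_zero (R := F)

theorem el_one (c : Vec) : el c 0 (0 : F) = 1 := by rw [el_zero, spTrv_zero']

theorem el_sq {c w : Vec} (h : B c w = 0) (α : F) : el c w α * el c w α = 1 := by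
  rw [el_mul h h, Symp.B_self, add_zero, ← el_one c]
  congr 1
  rw [← two_smul F w, CharTwo.two_eq_zero, zero_smul]

  exact CharTwo.add_self_eq_zero α
theorem el_inv {c w : Vec} (h : B c w = 0) (α : F) : (el c w α)⁻¹ = el c w α :=
  inv_eq_of_mul_eq_one_right (el_sq h α)

theorem el_conj {g : GLm} (hg : g ∈ Cfsg.spGL m F) {c w : Vec} (h : B c w = 0) (α : F) :
    g * el c w α * g⁻¹ = el ((g : Mat) *ᵥ c) ((g : Mat) *ᵥ w) α := by
  rw [mul_inv_eq_iff_eq_mul]
  refine gl_ext fun x => ?_
  have hh := Symp.mem_spGL_iff.1 hg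
  rw [mulVec_mul_GL, mulVec_mul_GL, el_apply h, el_apply (by rw [hh]; exact h), hh, hh]
  simp only [mulVec_add, mulVec_smul]

theorem spTrv_conj {g : GLm} (hg : g ∈ Cfsg.spGL m F) (c : Vec) (α : F) :
    g * spTrv c α * g⁻¹ = spTrv ((g : Mat) *ᵥ c) α := by
  rw [← el_zero, el_conj hg (map_zero _), mulVec_zero, el_zero]

/-- uniqueness of the parameters -/
theorem el_eq {c w w' : Vec} (h : B c w = 0) (h' : B c w' = 0) {α β : F}
    (e : el c w α = el c w' β) (hw : w = w') (hc : c ≠ 0) : α = β := by
  subst hw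
  obtain ⟨x, hx⟩ : ∃ x, B x c ≠ 0 := by
    by_contra hh
    push Not at hh
    exact hc (Symp.nondeg.1 c fun x => by rw [B_comm]; exact hh x)
  have := congrArg (fun g : GLm => (g : Mat) *ᵥ x) e
  simp only [el_apply h, add_right_inj] at this
  exact mul_right_cancel₀ hx (smul_left_injective F hc this)

/-- a vector orthogonal to both members of a pair meeting a third one -/
theorem decomp {a b : Vec} (hab : B a b = 1) (v : Vec) :
    ∃ w, B a w = 0 ∧ B b w = 0 ∧ v = B v b • a + B v a • b + w := by
  have hba : B b a = 1 := by rw [B_comm]; exact hab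
  refine ⟨v + B v b • a + B v a • b, ?_, ?_, ?_⟩
  · simp only [map_add, map_smul, smul_eq_mul, Symp.B_self, hab, B_comm v a]
    linear_combination (B v a) * CharTwo.two_eq_zero (R := F)
  · simp only [map_add, map_smul, smul_eq_mul, Symp.B_self, hba, B_comm v b]
    linear_combination (B v b) * CharTwo.two_eq_zero (R := F)
  · match_scalars <;> ring_nf <;> simp [CharTwo.two_eq_zero]

/-- a nonzero vector orthogonal to a pair -/
theorem exists_perp (hm : 2 ≤ m) (a b : Vec) : ∃ w, w ≠ 0 ∧ B a w = 0 ∧ B b w = 0 := by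
  have hne : LinearMap.ker ((B a).prod (B b)) ≠ ⊥ := by
    intro h
    have h1 := LinearMap.finrank_le_finrank_of_injective (LinearMap.ker_eq_bot.1 h)
    rw [finrank_vec, Module.finrank_prod, Module.finrank_self] at h1
    omega
  obtain ⟨w, hw, hw0⟩ := Submodule.exists_mem_ne_zero_of_ne_bot hne
  have h := LinearMap.mem_ker.1 hw
  exact ⟨w, hw0, congrArg Prod.fst h, congrArg Prod.snd h⟩

/-- a vector with prescribed products with two independent vectors -/
theorem exists_dual {c d : Vec} (hc : c ≠ 0) (h : ∀ t : F, d ≠ t • c) (k : F) :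
    ∃ w, B c w = 0 ∧ B w d = k := by
  obtain ⟨w, hw, hwd⟩ : ∃ w, B c w = 0 ∧ B w d ≠ 0 := by
    by_contra hh
    push Not at hh
    obtain ⟨x, hx⟩ : ∃ x, B c x ≠ 0 := by
      by_contra h2
      push Not at h2
      exact hc (Symp.nondeg.1 c h2)
    refine h (B d x / B c x) (sub_eq_zero.1 (Symp.nondeg.1 _ fun y => ?_))
    have h1 := hh (y + (B c y / B c x) • x) (by
      rw [map_add, map_smul, smul_eq_mul, div_mul_cancel₀ _ hx, CharTwo.add_self_eq_zero])
    rw [B_comm, map_add, map_smul, smul_eq_mul] at h1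
    rw [map_sub, map_smul, LinearMap.sub_apply, LinearMap.smul_apply, smul_eq_mul]
    field_simp
    field_simp at h1
    linear_combination h1 - (B c y * B d x) * CharTwo.two_eq_zero (R := F)
  exact ⟨(k / B w d) • w, by rw [map_smul, hw, smul_zero],
    by rw [map_smul, LinearMap.smul_apply, smul_eq_mul, div_mul_cancel₀ _ hwd]⟩

end Cfsg.Agent.Forms.Max.TwoRoot
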