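import Mathlib
import Cfsg.Agent.Lib.Forms.Max.TwoRoot.Basic

/-!
# Centres, and the case of a transvection at a centre
-/

set_option autoImplicit false
set_option linter.unusedSectionVars false

namespace Cfsg.Agent.Forms.Max.TwoRoot

open Matrix Cfsg.Agent.Aschbacher Cfsg.Agent.Forms.SympStd Cfsg.Agent.Forms.Max

variable {F : Type*} [Field F] [CharP F 2] {m : ℕ}

local notation "Vec" => (Fin m ⊕ Fin m → F)
local notation "GLm" => GL (Fin m ⊕ Fin m) F
local notation "B" => sympB m F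
local notation "Mat" => Matrix (Fin m ⊕ Fin m) (Fin m ⊕ Fin m) F

/-- an irreducible group covering the radical of a point modulo its centre -/
structure Setup (F : Type*) [Field F] [CharP F 2] (m : ℕ) where
  /-- the group -/
  L : Subgroup (GL (Fin m ⊕ Fin m) F)
  /-- the point -/
  a : Fin m ⊕ Fin m → F
  le : L ≤ Cfsg.spGL m F
  ha : a ≠ 0
  lift : ∀ w, sympB m F a w = 0 → ∃ α, el a w α ∈ L
  irr : ∀ W : Submodule F (Fin m ⊕ Fin m → F),
    (∀ g ∈ L, ∀ w ∈ W, (g : Matrix (Fin m ⊕ Fin m) (Fin m ⊕ Fin m) F) *ᵥ w ∈ W) → W = ⊥ ∨ W = ⊤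
  hm : 2 ≤ m

namespace Setup

variable (S : Setup F m)

/-- multiples of images of the point -/
def Centre (c : Vec) : Prop := ∃ g ∈ S.L, ∃ t : F, t ≠ 0 ∧ c = t • ((g : Mat) *ᵥ S.a)

/-- some transvection with this centre lies in the group -/
def HasTrv (c : Vec) : Prop := ∃ α : F, α ≠ 0 ∧ spTrv c α ∈ S.L

theorem centre_self : S.Centre S.a :=
  ⟨1, one_mem _, 1, one_ne_zero, by rw [one_smul, Units.val_one, one_mulVec]⟩

variable {S}

theorem centre_map {g : GLm} (hg : g ∈ S.L) {c : Vec} (hc : S.Centre c) :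
    S.Centre ((g : Mat) *ᵥ c) := by
  obtain ⟨k, hk, t, ht, rfl⟩ := hc
  exact ⟨g * k, mul_mem hg hk, t, ht, by rw [mulVec_smul, mulVec_mul_GL]⟩

theorem centre_smul {c : Vec} (hc : S.Centre c) {s : F} (hs : s ≠ 0) : S.Centre (s • c) := by
  obtain ⟨k, hk, t, ht, rfl⟩ := hc
  exact ⟨k, hk, s * t, mul_ne_zero hs ht, by rw [smul_smul]⟩

theorem centre_ne {c : Vec} (hc : S.Centre c) : c ≠ 0 := by
  obtain ⟨k, -, t, ht, rfl⟩ := hc
  refine smul_ne_zero ht fun h => S.ha ?_
  rw [← Matrix.one_mulVec S.a, ← Units.val_one, ← inv_mul_cancel k, mulVec_mul_GL, h, mulVec_zero]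

theorem centre_lift {c : Vec} (hc : S.Centre c) {w : Vec} (h : B c w = 0) :
    ∃ α, el c w α ∈ S.L := by
  obtain ⟨k, hk, t, ht, rfl⟩ := hc
  have hks := S.le hk
  set w₀ : Vec := (↑(k⁻¹) : Mat) *ᵥ w with hw₀
  have hk₀ : (k : Mat) *ᵥ w₀ = w := mulVec_inv_cancel k w
  have h0 : B ((k : Mat) *ᵥ S.a) ((k : Mat) *ᵥ w₀) = 0 := by
    rw [hk₀]
    rw [map_smul, LinearMap.smul_apply, smul_eq_mul] at h
    exact (mul_eq_zero.1 h).resolve_left ht
  rw [Symp.mem_spGL_iff.1 hks] at h0
  obtain ⟨α, hα⟩ := S.lift (t • w₀) (by rw [map_smul, h0, smul_zero])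
  refine ⟨α / (t * t), ?_⟩
  have hcw : B ((k : Mat) *ᵥ S.a) w = 0 := by
    rw [← hk₀, Symp.mem_spGL_iff.1 hks, h0]
  rw [el_smul hcw, mul_div_cancel₀ _ (mul_ne_zero ht ht)]
  have := mul_mem (mul_mem hk hα) (inv_mem hk)
  rwa [el_conj hks (by rw [map_smul, h0, smul_zero]), mulVec_smul, hk₀] at this

theorem hasTrv_iff {c : Vec} (hc : S.Centre c) : S.HasTrv c ↔ S.HasTrv S.a := by
  obtain ⟨k, hk, t, ht, rfl⟩ := hc
  have hks := S.le hk
  have key : ∀ α, spTrv (t • ((k : Mat) *ᵥ S.a)) α = k * spTrv S.a (t * t * α) * k⁻¹ := fun α => by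
    rw [spTrv_conj hks, ← el_zero, ← el_zero, el_smul (map_zero _), smul_zero]
  have hiff : ∀ α, spTrv (t • ((k : Mat) *ᵥ S.a)) α ∈ S.L ↔ spTrv S.a (t * t * α) ∈ S.L := fun α => by
    rw [key, Subgroup.mul_mem_cancel_right _ (inv_mem hk), Subgroup.mul_mem_cancel_left _ hk]
  constructor
  · rintro ⟨α, hα, h⟩
    exact ⟨t * t * α, mul_ne_zero (mul_ne_zero ht ht) hα, (hiff α).1 h⟩
  · rintro ⟨α, hα, h⟩
    exact ⟨α / (t * t), div_ne_zero hα (mul_ne_zero ht ht), (hiff _).2 (by
      rwa [mul_div_cancel₀ _ (mul_ne_zero ht ht)])⟩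

theorem span_centres : Submodule.span F {c : Vec | S.Centre c} = ⊤ := by
  refine (S.irr _ fun g hg w hw => ?_).resolve_left fun h => ?_
  · induction hw using Submodule.span_induction with
    | mem x hx => exact Submodule.subset_span (centre_map hg hx)
    | zero => rw [mulVec_zero]; exact zero_mem _
    | add x y _ _ hx hy => rw [mulVec_add]; exact add_mem hx hy
    | smul t x _ hx => rw [mulVec_smul]; exact Submodule.smul_mem _ _ hx
  · exact S.ha ((Submodule.mem_bot F).1 (h ▸ Submodule.subset_span S.centre_self))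

theorem exists_not_perp {v : Vec} (hv : v ≠ 0) : ∃ c, S.Centre c ∧ B v c ≠ 0 := by
  by_contra h
  push Not at h
  refine hv (Symp.nondeg.1 v fun y => ?_)
  have hy : y ∈ Submodule.span F {c : Vec | S.Centre c} := (span_centres (S := S)).symm ▸ Submodule.mem_top
  induction hy using Submodule.span_induction with
  | mem x hx => exact h x hx
  | zero => rw [map_zero]
  | add x y _ _ hx hy => rw [map_add, hx, hy, add_zero]
  | smul t x _ hx => rw [map_smul, hx, smul_zero]

theorem exists_opp {c : Vec} (hc : S.Centre c) : ∃ d, S.Centre d ∧ B c d = 1 := by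
  obtain ⟨d, hd, hne⟩ := exists_not_perp (centre_ne hc)
  exact ⟨(B c d)⁻¹ • d, centre_smul hd (inv_ne_zero hne),
    by rw [map_smul, smul_eq_mul, inv_mul_cancel₀ hne]⟩

theorem el_opp {c d w : Vec} {α : F} (hd : S.Centre d) (hcd : B c d = 1) (hw : B c w = 0)
    (hdw : B d w = 0) (h : el c w α ∈ S.L) : S.Centre (d + w + α • c) := by
  have := centre_map h hd
  rwa [el_apply hw, B_comm c d, hcd, hdw, one_smul, zero_smul, add_zero, mul_one] at this

/-- commutators with a lift move a transvection into the radical -/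
theorem el_of_trv {c d : Vec} (hc : S.Centre c) (hne : ∀ t : F, d ≠ t • c) (hcd : B c d = 0)
    {β : F} (h : spTrv d β ∈ S.L) (k : F) : el c ((β * k) • d) (β * k * k) ∈ S.L := by
  obtain ⟨w, hw, hwd⟩ := exists_dual (centre_ne hc) hne k
  obtain ⟨α, hα⟩ := centre_lift hc hw
  have h1 := mul_mem (mul_mem (mul_mem hα h) (inv_mem hα)) h
  rw [spTrv_conj (el_mem _ _ _)] at h1
  convert h1 using 1
  refine gl_ext fun x => ?_
  rw [el_apply (by rw [map_smul, hcd, smul_zero]), mulVec_mul_GL, Symp.spTrv_apply, Symp.spTrv_apply,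
    el_apply hw]
  simp only [map_add, map_smul, LinearMap.add_apply, LinearMap.smul_apply, smul_eq_mul, B_comm c d,
    hcd, B_comm w d, hwd, Symp.B_self, mul_zero, zero_mul, zero_smul, add_zero]
  match_scalars <;> ring_nf <;> simp [CharTwo.two_eq_zero]

/-- two opposite lifts multiply to a pair of transvections -/
theorem pair_of_el {c d : Vec} (hcd : B c d = 0) {s σ τ : F} (h : el c (s • d) σ ∈ S.L)
    (h' : el d (s • c) τ ∈ S.L) : spTrv c σ * spTrv d τ ∈ S.L := by
  have hdc : B d c = 0 := by rw [B_comm]; exact hcd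
  convert mul_mem h h' using 1
  refine gl_ext fun x => ?_
  rw [mulVec_mul_GL, mulVec_mul_GL, Symp.spTrv_apply, Symp.spTrv_apply,
    el_apply (by rw [map_smul, hcd, smul_zero]), el_apply (by rw [map_smul, hdc, smul_zero])]
  simp only [map_add, map_smul, LinearMap.add_apply, LinearMap.smul_apply, smul_eq_mul, hdc, hcd,
    Symp.B_self, mul_zero, zero_mul, zero_smul, add_zero]
  match_scalars <;> ring_nf <;> simp [CharTwo.two_eq_zero]

/-- commutators of a lift with a pair of transvections -/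
theorem el_of_pair {c d : Vec} (hc : S.Centre c) (hne : ∀ t : F, d ≠ t • c) (hcd : B c d = 0)
    {σ τ : F} (h : spTrv c σ * spTrv d τ ∈ S.L) (k : F) : el c ((τ * k) • d) (τ * k * k) ∈ S.L := by
  obtain ⟨w, hw, hwd⟩ := exists_dual (centre_ne hc) hne k
  obtain ⟨α, hα⟩ := centre_lift hc hw
  have hs : ∀ g : GLm, g ∈ S.L → g ∈ Cfsg.spGL m F := fun g hg => S.le hg
  have h1 := mul_mem (mul_mem (mul_mem hα h) (inv_mem hα)) h
  rw [show el c w α * (spTrv c σ * spTrv d τ) * (el c w α)⁻¹ =
      (el c w α * spTrv c σ * (el c w α)⁻¹) * (el c w α * spTrv d τ * (el c w α)⁻¹) by group,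
    spTrv_conj (el_mem _ _ _), spTrv_conj (el_mem _ _ _)] at h1
  convert h1 using 1
  refine gl_ext fun x => ?_
  rw [el_apply (by rw [map_smul, hcd, smul_zero])]
  simp only [mulVec_mul_GL, Symp.spTrv_apply, el_apply hw, map_add, map_smul, LinearMap.add_apply,
    LinearMap.smul_apply, smul_eq_mul, B_comm c d, hcd, B_comm w d, hwd, hw, Symp.B_self, mul_zero,
    zero_mul, zero_smul, add_zero]
  match_scalars <;> ring_nf <;> simp [CharTwo.two_eq_zero]

variable [Fintype F]

theorem exists_sq (x : F) : ∃ y : F, y * y = x := by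
  obtain ⟨y, hy⟩ := FiniteField.isSquare_of_char_two (ringChar.eq F 2) x
  exact ⟨y, hy.symm⟩

/-- with a transvection at a centre there are orthogonal centres -/
theorem exists_orth_centres {c d : Vec} (hc : S.Centre c) (hd : S.Centre d) (hcd : B c d = 1)
    (h : S.HasTrv c) : ∃ d', S.Centre d' ∧ B d d' = 0 ∧ ∀ t : F, d' ≠ t • d := by
  obtain ⟨e, he0, hce, hde⟩ := exists_perp S.hm c d
  choose γ hγ using fun s : F => centre_lift hc (w := s • e) (by rw [map_smul, hce, smul_zero])
  obtain ⟨α, hα, htα⟩ := h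
  classical
  obtain ⟨p, p', hpp, heq⟩ : ∃ p p' : F × Bool, p ≠ p' ∧
      γ p.1 + (if p.2 then α else 0) = γ p'.1 + (if p'.2 then α else 0) :=
    Fintype.exists_ne_map_eq_of_card_lt (fun p : F × Bool => γ p.1 + (if p.2 then α else 0)) (by
      rw [Fintype.card_prod, Fintype.card_bool]
      exact lt_mul_of_one_lt_right Fintype.card_pos one_lt_two)
  have hmem : ∀ p : F × Bool, el c (p.1 • e) (γ p.1 + (if p.2 then α else 0)) ∈ S.L := fun p => by
    cases p.2
    · simpa using hγ p.1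
    · have := mul_mem (hγ p.1) htα
      rw [← el_zero, el_mul (by rw [map_smul, hce, smul_zero]) (map_zero _), add_zero, map_zero,
        LinearMap.zero_apply, add_zero] at this
      simpa using this
  have hs : p.1 + p'.1 ≠ 0 := fun h0 => by
    have h1 : p.1 = p'.1 := CharTwo.add_eq_zero.1 h0
    rw [h1, add_right_inj] at heq
    refine hpp (Prod.ext h1 ?_)
    revert heq
    cases p.2 <;> cases p'.2 <;> simp [hα, Ne.symm hα]
  have h2 := mul_mem (hmem p) (hmem p')
  rw [el_mul (by rw [map_smul, hce, smul_zero]) (by rw [map_smul, hce, smul_zero]), heq, ← add_smul,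
    map_smul, map_smul, LinearMap.smul_apply, Symp.B_self, smul_zero, smul_zero, add_zero,
    CharTwo.add_self_eq_zero] at h2
  refine ⟨d + (p.1 + p'.1) • e, ?_, ?_, ?_⟩
  · have := el_opp hd hcd (by rw [map_smul, hce, smul_zero]) (by rw [map_smul, hde, smul_zero]) h2
    rwa [zero_smul, add_zero] at this
  · rw [map_add, map_smul, hde, Symp.B_self, smul_zero, add_zero]
  · intro t ht
    have h3 := congrArg (fun v => B c v) ht
    simp only [map_add, map_smul, hcd, hce, smul_zero, mul_zero, add_zero, smul_eq_mul, mul_one] at h3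
    rw [← h3, one_smul, add_eq_left, smul_eq_zero] at ht
    exact ht.elim hs he0

/-- a transvection at a centre gives all transvections at all centres -/
theorem centre_mem_centres (hT : S.HasTrv S.a) {c : Vec} (hc : S.Centre c) : c ∈ Symp.centres S.L := by
  obtain ⟨α, hα, hαm⟩ := (hasTrv_iff hc).2 hT
  by_cases hq : ∀ x : F, x = 0 ∨ x = 1
  · intro x
    rcases hq x with rfl | rfl
    · rw [spTrv_zero']; exact one_mem _
    · rcases hq α with rfl | rfl
      · exact absurd rfl hα
      · exact hαm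
  push Not at hq
  obtain ⟨r, hr0, hr1⟩ := hq
  obtain ⟨c₂, hc₂, hcc₂⟩ := exists_opp hc
  obtain ⟨d, hd, hcd, hdne⟩ := exists_orth_centres hc₂ hc (by rw [B_comm]; exact hcc₂)
    ((hasTrv_iff hc₂).2 hT)
  have hdc : B d c = 0 := by rw [B_comm]; exact hcd
  have hcne : ∀ t : F, c ≠ t • d := fun t ht => by
    rcases eq_or_ne t 0 with rfl | ht0
    · exact centre_ne hc (by rw [ht, zero_smul])
    · exact hdne t⁻¹ (by rw [ht, smul_smul, inv_mul_cancel₀ ht0, one_smul])
  obtain ⟨β, hβ, hβm⟩ := (hasTrv_iff hd).2 hT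
  have h1 : ∀ u : F, el c (u • d) (u * u / β) ∈ S.L := fun u => by
    have := el_of_trv hc hdne hcd hβm (u / β)
    rwa [mul_div_cancel₀ _ hβ, ← mul_div_assoc] at this
  have h2 : ∀ u : F, el d (u • c) (u * u / α) ∈ S.L := fun u => by
    have := el_of_trv hd hcne hdc hαm (u / α)
    rwa [mul_div_cancel₀ _ hα, ← mul_div_assoc] at this
  have h3 : ∀ s u : F, s ≠ 0 → el c (u • d) (u * u * α / (s * s)) ∈ S.L := fun s u hs => by
    have := el_of_pair hc hdne hcd (pair_of_el hcd (h1 s) (h2 s)) (u * α / (s * s))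
    convert this using 2
    · congr 1; field_simp
    · field_simp
  intro x
  set d₀ : F := α + α / (r * r) with hd₀
  have hd₀0 : d₀ ≠ 0 := by
    rw [hd₀]
    intro h
    rw [CharTwo.add_eq_zero, eq_comm, div_eq_iff (mul_ne_zero hr0 hr0)] at h
    have h' : (r + 1) * (r + 1) = 0 := by
      have h4 := mul_left_cancel₀ hα (show α * 1 = α * (r * r) by rw [mul_one]; exact h)
      linear_combination -h4 + (r + 1) * CharTwo.two_eq_zero (R := F)
    exact hr1 (CharTwo.add_eq_zero.1 (mul_self_eq_zero.1 h'))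
  obtain ⟨u, hu⟩ := exists_sq (x / d₀)
  have h4 := mul_mem (h3 1 u one_ne_zero) (h3 r u hr0)
  rw [el_mul (by rw [map_smul, hcd, smul_zero]) (by rw [map_smul, hcd, smul_zero]), Symp.B_self,
    add_zero, ← add_smul, CharTwo.add_self_eq_zero, zero_smul, el_zero] at h4
  convert h4 using 2
  rw [hu]
  have hx : x / d₀ * d₀ = x := div_mul_cancel₀ _ hd₀0
  rw [hd₀] at hx hd₀0 ⊢
  linear_combination -hx

/-- a transvection at a centre gives the whole symplectic group -/
theorem eq_spGL_of_hasTrv (hT : S.HasTrv S.a) : S.L = Cfsg.spGL m F := by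
  refine le_antisymm S.le (Symp.spGL_le_of_centres fun v => ?_)
  rcases eq_or_ne v 0 with rfl | hv
  · intro x
    rw [show spTrv (0 : Vec) x = 1 from gl_ext fun y => by simp [Symp.spTrv_apply]]
    exact one_mem _
  obtain ⟨c, hc, hvc⟩ := exists_not_perp (S := S) hv
  obtain ⟨d, hd, hcd⟩ := exists_opp hc
  obtain ⟨w, hcw, hdw, hdec⟩ := decomp hcd v
  obtain ⟨α, hα⟩ := centre_lift hc hcw
  set u : Vec := (B v c)⁻¹ • w with hu
  obtain ⟨α', hα'⟩ := centre_lift hc (w := u) (by rw [hu, map_smul, hcw, smul_zero])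
  have h1 := el_opp hd hcd (by rw [hu, map_smul, hcw, smul_zero]) (by rw [hu, map_smul, hdw, smul_zero]) hα'
  have h2 := Symp.centres_map (S.le (centre_mem_centres hT hc ((B v c)⁻¹ * B v d + α')))
    (centre_mem_centres hT hc ((B v c)⁻¹ * B v d + α')) (centre_mem_centres hT h1)
  have h3 := Symp.centres_smul (B v c) h2
  convert h3 using 1
  conv_lhs => rw [hdec]
  rw [Symp.spTrv_apply]
  simp only [hu, map_add, map_smul, LinearMap.add_apply, LinearMap.smul_apply, smul_eq_mul,
    B_comm c d, hcd, B_comm c w, hcw, Symp.B_self, mul_zero, add_zero, mul_one]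
  match_scalars <;> field_simp <;> ring_nf <;> simp [CharTwo.two_eq_zero]

end Setup

end Cfsg.Agent.Forms.Max.TwoRoot
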