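import Mathlib
import Cfsg.Agent.Lib.Forms.Max.TwoRoot.Centres

/-!
# Orthogonal centres when no transvection lies in the group
-/

set_option autoImplicit false
set_option linter.unusedSectionVars false

namespace Cfsg.Agent.Forms.Max.TwoRoot

open Matrix Cfsg.Agent.Aschbacher Cfsg.Agent.Forms.SympStd Cfsg.Agent.Forms.Max

variable {F : Type*} [Field F] [CharP F 2] {m : ℕ}

local notation "Vec" => (Fin m ⊕ Fin m → F)
local notation "GLm" => GL (Fin m ⊕ Fin m) F
local notation "B" => sympB m F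
local notation "Mat" => Matrix (Fin m ⊕ Fin m) (Fin m ⊕ Fin m) F

namespace Setup

variable (S : Setup F m)

open scoped Classical in
/-- the parameter of a lift -/
noncomputable def γ (c w : Vec) : F :=
  if h : S.Centre c ∧ B c w = 0 then (centre_lift h.1 h.2).choose else 0

variable {S}

theorem γ_mem {c w : Vec} (hc : S.Centre c) (hw : B c w = 0) : el c w (S.γ c w) ∈ S.L := by
  rw [γ, dif_pos ⟨hc, hw⟩]
  exact (centre_lift hc hw).choose_spec

theorem el_uniq (hN : ¬ S.HasTrv S.a) {c w : Vec} (hc : S.Centre c) (hw : B c w = 0) {α β : F}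
    (hα : el c w α ∈ S.L) (hβ : el c w β ∈ S.L) : α = β := by
  by_contra hne
  refine hN ((hasTrv_iff hc).1 ⟨α + β, fun h => hne (CharTwo.add_eq_zero.1 h), ?_⟩)
  have := mul_mem hα hβ
  rwa [el_mul hw hw, Symp.B_self, add_zero, ← two_smul F w, CharTwo.two_eq_zero, zero_smul,
    el_zero] at this

theorem γ_eq (hN : ¬ S.HasTrv S.a) {c w : Vec} (hc : S.Centre c) (hw : B c w = 0) {α : F}
    (h : el c w α ∈ S.L) : S.γ c w = α :=
  el_uniq hN hc hw (γ_mem hc hw) h

theorem γ_add (hN : ¬ S.HasTrv S.a) {c w w' : Vec} (hc : S.Centre c) (hw : B c w = 0)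
    (hw' : B c w' = 0) : S.γ c (w + w') = S.γ c w + S.γ c w' + B w' w := by
  refine γ_eq hN hc (by rw [map_add, hw, hw', add_zero]) ?_
  rw [← el_mul hw hw']
  exact mul_mem (γ_mem hc hw) (γ_mem hc hw')

theorem γ_zero (hN : ¬ S.HasTrv S.a) {c : Vec} (hc : S.Centre c) : S.γ c 0 = 0 :=
  γ_eq hN hc (map_zero _) (by rw [el_one]; exact one_mem _)

theorem γ_add_self (hN : ¬ S.HasTrv S.a) {c w : Vec} (hc : S.Centre c) (hw : B c w = 0) (s : F) :
    S.γ c (w + s • c) = S.γ c w := by
  refine γ_eq hN hc (by rw [map_add, map_smul, hw, Symp.B_self, smul_zero, add_zero]) ?_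
  rw [el_add_self hw]
  exact γ_mem hc hw

theorem ne_swap {c d : Vec} (hc : c ≠ 0) (hne : ∀ t : F, d ≠ t • c) : ∀ t : F, c ≠ t • d := by
  intro t ht
  rcases eq_or_ne t 0 with rfl | h0
  · exact hc (by rw [ht, zero_smul])
  · exact hne t⁻¹ (by rw [ht, smul_smul, inv_mul_cancel₀ h0, one_smul])

variable [Fintype F]

theorem γ_orth_q (hN : ¬ S.HasTrv S.a) (hq : 2 < Fintype.card F) {c d : Vec} (hc : S.Centre c)
    (hd : S.Centre d) (hne : ∀ t : F, d ≠ t • c) (hne' : ∀ t : F, c ≠ t • d) (hcd : B c d = 0)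
    (s : F) : S.γ d (s • c) = 0 := by
  have hdc : B d c = 0 := by rw [B_comm]; exact hcd
  have hp : ∀ u : F, B c (u • d) = 0 := fun u => by rw [map_smul, hcd, smul_zero]
  have hp' : ∀ u : F, B d (u • c) = 0 := fun u => by rw [map_smul, hdc, smul_zero]
  by_contra hτ
  set τ := S.γ d (s • c) with hτdef
  set σ := S.γ c (s • d) with hσdef
  have h1 : ∀ v u : F, S.γ d (v • c) ≠ 0 → S.γ c (u • d) = u * u / S.γ d (v • c) := by
    intro v u hv
    refine γ_eq hN hc (hp u) ?_
    have := el_of_pair hc hne hcd (pair_of_el hcd (γ_mem hc (hp v)) (γ_mem hd (hp' v)))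
      (u / S.γ d (v • c))
    rwa [mul_div_cancel₀ _ hv, ← mul_div_assoc] at this
  have hs : s ≠ 0 := fun h => hτ (by rw [hτdef, h, zero_smul, γ_zero hN hd])
  have hσ : σ = s * s / τ := h1 s s hτ
  have hσ0 : σ ≠ 0 := by rw [hσ]; exact div_ne_zero (mul_ne_zero hs hs) hτ
  have h2 : ∀ u : F, S.γ d (u • c) = u * u / σ := by
    intro u
    refine γ_eq hN hd (hp' u) ?_
    have := el_of_pair hd hne' hdc (pair_of_el hdc (γ_mem hd (hp' s)) (γ_mem hc (hp s))) (u / σ)
    rwa [mul_div_cancel₀ _ hσ0, ← mul_div_assoc] at this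
  have h3 : ∀ u : F, u = 0 ∨ u = s := by
    intro u
    rcases eq_or_ne u 0 with hu | hu
    · exact Or.inl hu
    refine Or.inr ?_
    have hu' : S.γ d (u • c) ≠ 0 := by rw [h2]; exact div_ne_zero (mul_ne_zero hu hu) hσ0
    have e : S.γ d (u • c) = τ := by
      have e1 := (h1 u 1 hu').symm.trans (h1 s 1 hτ)
      rw [mul_one, one_div, one_div, _root_.inv_inj] at e1
      exact e1
    rw [hτdef, h2, h2, div_left_inj' hσ0] at e
    exact CharTwo.sq_inj.1 (by rw [pow_two, pow_two]; exact e)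
  have : Fintype.card F ≤ 2 := by
    classical
    rw [← Finset.card_univ]
    calc (Finset.univ : Finset F).card ≤ ({0, s} : Finset F).card :=
        Finset.card_le_card fun u _ => by simpa using h3 u
      _ ≤ 2 := Finset.card_le_two
  omega

omit [Fintype F] in
theorem γ_orth_m (hN : ¬ S.HasTrv S.a) (hm : 3 ≤ m) {c d : Vec} (hc : S.Centre c) (hd : S.Centre d)
    (hcd : B c d = 0) (s : F) : S.γ d (s • c) = 0 := by
  have hdc : B d c = 0 := by rw [B_comm]; exact hcd
  set U : Submodule F Vec := Submodule.span F {c, d} with hU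
  have hperp : ∀ y, y ∈ (B).orthogonal U ↔ B c y = 0 ∧ B d y = 0 := fun y => by
    rw [LinearMap.BilinForm.mem_orthogonal_iff]
    constructor
    · exact fun h => ⟨h c (Submodule.subset_span (by simp)), h d (Submodule.subset_span (by simp))⟩
    · intro h x hx
      obtain ⟨p, q, rfl⟩ := Submodule.mem_span_pair.1 hx
      show B (p • c + q • d) y = 0
      simp [h.1, h.2]
  obtain ⟨w, hw, hwU⟩ : ∃ w ∈ (B).orthogonal U, w ∉ U := by
    by_contra h
    push Not at h
    have h1 := Submodule.finrank_mono (show (B).orthogonal U ≤ U from h)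
    have h2 := LinearMap.BilinForm.finrank_orthogonal Symp.nondeg U
    have h3 : Module.finrank F U ≤ 2 := by
      classical
      have e : U = Submodule.span F (↑({c, d} : Finset Vec) : Set Vec) := by simp [hU]
      rw [e]
      exact (finrank_span_finset_le_card _).trans Finset.card_le_two
    rw [finrank_vec] at h2
    omega
  obtain ⟨w', hw', hww⟩ : ∃ w' ∈ (B).orthogonal U, B w w' ≠ 0 := by
    by_contra h
    push Not at h
    refine hwU ?_
    rw [← LinearMap.BilinForm.orthogonal_orthogonal Symp.nondeg Symp.isRefl U]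
    exact LinearMap.BilinForm.mem_orthogonal_iff.2 fun y hy => by
      show B y w = 0
      rw [B_comm]; exact h y hy
  obtain ⟨hcw, hdw⟩ := (hperp w).1 hw
  obtain ⟨w'', hw''⟩ : ∃ x : Vec, x = (s / B w w') • w' := ⟨_, rfl⟩
  obtain ⟨hcw', hdw'⟩ : B c w'' = 0 ∧ B d w'' = 0 := by
    obtain ⟨h1, h2⟩ := (hperp w').1 hw'
    exact ⟨by rw [hw'', map_smul, h1, smul_zero], by rw [hw'', map_smul, h2, smul_zero]⟩
  have hs : B w'' w = s := by
    rw [B_comm, hw'', map_smul, smul_eq_mul, div_mul_cancel₀ _ hww]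
  obtain ⟨α, hα⟩ := centre_lift hc hcw
  obtain ⟨β, hβ⟩ := centre_lift hd hdw'
  have hg := mul_mem (mul_mem hα hβ) (inv_mem hα)
  have e1 : (el c w α : Mat) *ᵥ d = d := by
    rw [el_apply hcw, hdc, hdw]; simp
  have e2 : (el c w α : Mat) *ᵥ w'' = w'' + s • c := by
    rw [el_apply hcw, B_comm c w'', hcw', hs]; simp
  rw [el_conj (el_mem _ _ _) hdw', e1, e2] at hg
  have h := mul_mem hg hβ
  rw [el_mul (by rw [map_add, map_smul, hdw', hdc, smul_zero, add_zero]) hdw',
    CharTwo.add_self_eq_zero, map_add, map_smul, Symp.B_self, B_comm c w'', hcw', smul_zero,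
    add_zero, add_zero, add_right_comm, ← two_smul F w'', CharTwo.two_eq_zero, zero_smul,
    zero_add] at h
  exact γ_eq hN hd (by rw [map_smul, hdc, smul_zero]) h

/-- orthogonal centres have trivial parameters -/
theorem γ_orth (hN : ¬ S.HasTrv S.a) (h : 2 < Fintype.card F ∨ 3 ≤ m) {c d : Vec}
    (hc : S.Centre c) (hd : S.Centre d) (hne : ∀ t : F, d ≠ t • c) (hcd : B c d = 0)
    (s : F) : S.γ c (s • d) = 0 := by
  have hdc : B d c = 0 := by rw [B_comm]; exact hcd
  rcases h with h | h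
  · exact γ_orth_q hN h hd hc (ne_swap (centre_ne hc) hne) hne hdc s
  · exact γ_orth_m hN h hd hc hdc s

end Setup

end Cfsg.Agent.Forms.Max.TwoRoot
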