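import Mathlib
import Cfsg.Agent.Lib.Forms.Max.TwoRoot.Orth

/-!
# The quadratic form attached to a pair of opposite centres
-/

set_option autoImplicit false
set_option linter.unusedSectionVars false

namespace Cfsg.Agent.Forms.Max.TwoRoot

open Matrix Cfsg.Agent.Aschbacher Cfsg.Agent.Forms.SympStd Cfsg.Agent.Forms.Max

variable {F : Type*} [Field F] [CharP F 2] {m : ℕ}

local notation "Vec" => (Fin m ⊕ Fin m → F)
local notation "GLm" => GL (Fin m ⊕ Fin m) F
local notation "B" => sympB m F
local notation "Mat" => Matrix (Fin m ⊕ Fin m) (Fin m ⊕ Fin m) F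

/-- the component orthogonal to a pair -/
noncomputable def pproj (a b v : Vec) : Vec := v + B v b • a + B v a • b

theorem pproj_perp {a b : Vec} (hab : B a b = 1) (v : Vec) :
    B a (pproj a b v) = 0 ∧ B b (pproj a b v) = 0 := by
  have hba : B b a = 1 := by rw [B_comm]; exact hab
  refine ⟨?_, ?_⟩
  · simp only [pproj, map_add, map_smul, smul_eq_mul, Symp.B_self, hab, B_comm v a]
    linear_combination (B v a) * CharTwo.two_eq_zero (R := F)
  · simp only [pproj, map_add, map_smul, smul_eq_mul, Symp.B_self, hba, B_comm v b]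
    linear_combination (B v b) * CharTwo.two_eq_zero (R := F)

theorem pproj_dec (a b v : Vec) : v = B v b • a + B v a • b + pproj a b v := by
  rw [pproj]
  match_scalars <;> ring_nf <;> simp [CharTwo.two_eq_zero]

theorem pproj_add (a b v v' : Vec) : pproj a b (v + v') = pproj a b v + pproj a b v' := by
  simp only [pproj, map_add, LinearMap.add_apply]
  module

theorem pproj_smul (a b : Vec) (t : F) (v : Vec) : pproj a b (t • v) = t • pproj a b v := by
  simp only [pproj, map_smul, LinearMap.smul_apply, smul_eq_mul]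
  module

theorem pproj_self {a b w : Vec} (h : B a w = 0) (h' : B b w = 0) : pproj a b w = w := by
  rw [pproj, B_comm b w, h', B_comm a w, h]
  simp

namespace Setup

variable {S : Setup F m} [Fintype F]

theorem pair_zero (hN : ¬ S.HasTrv S.a) (hq : 2 < Fintype.card F ∨ 3 ≤ m) {a b : Vec}
    (ha : S.Centre a) (hb : S.Centre b) (hab : B a b = 1) {w : Vec} (haw : B a w = 0)
    (hbw : B b w = 0) (h : S.γ a w = 0) (s : F) : S.γ b (s • w) = 0 := by
  rcases eq_or_ne w 0 with rfl | hw
  · rw [smul_zero, γ_zero hN hb]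
  have h1 := γ_mem ha haw
  rw [h] at h1
  have h2 := el_opp hb hab haw hbw h1
  rw [zero_smul, add_zero] at h2
  have h3 := γ_orth hN hq hb h2 (fun t ht => hw ?_)
    (by rw [map_add, Symp.B_self, hbw, add_zero]) s
  · rwa [smul_add, add_comm (s • b), γ_add_self hN hb (by rw [map_smul, hbw, smul_zero])] at h3
  · have h4 := congrArg (fun v => B a v) ht
    simp only [map_add, map_smul, hab, haw, add_zero, smul_eq_mul, mul_one] at h4
    rwa [← h4, one_smul, add_eq_left] at ht

theorem pair_ne (hN : ¬ S.HasTrv S.a) (hq : 2 < Fintype.card F ∨ 3 ≤ m) {a b : Vec}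
    (ha : S.Centre a) (hb : S.Centre b) (hab : B a b = 1) {w : Vec} (haw : B a w = 0)
    (hbw : B b w = 0) (h : S.γ a w ≠ 0) {r : F} (hr : r ≠ 0) :
    S.γ b (r • w) ≠ 0 ∧ S.γ a (r • w) ≠ 0 := by
  have h1 : S.γ b (r • w) ≠ 0 := fun h0 => h (by
    have := pair_zero hN hq hb ha (by rw [B_comm]; exact hab) (w := r • w)
      (by rw [map_smul, hbw, smul_zero]) (by rw [map_smul, haw, smul_zero]) h0 r⁻¹
    rwa [smul_smul, inv_mul_cancel₀ hr, one_smul] at this)
  refine ⟨h1, fun h0 => h1 ?_⟩
  have := pair_zero hN hq ha hb hab (w := r • w) (by rw [map_smul, haw, smul_zero])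
    (by rw [map_smul, hbw, smul_zero]) h0 1
  rwa [one_smul] at this

omit [Fintype F] in
theorem γ_line_inj (hN : ¬ S.HasTrv S.a) {c w : Vec} (hc : S.Centre c) (hw : B c w = 0)
    (h : ∀ r : F, r ≠ 0 → S.γ c (r • w) ≠ 0) : Function.Injective fun r : F => S.γ c (r • w) := by
  intro r r' e
  by_contra hne
  refine h (r + r') (fun h0 => hne (CharTwo.add_eq_zero.1 h0)) ?_
  rw [add_smul, γ_add hN hc (by rw [map_smul, hw, smul_zero]) (by rw [map_smul, hw, smul_zero]),
    show S.γ c (r • w) = S.γ c (r' • w) from e, CharTwo.add_self_eq_zero]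
  simp [map_smul, Symp.B_self]

theorem pair_inv (hN : ¬ S.HasTrv S.a) (hq : 2 < Fintype.card F ∨ 3 ≤ m) {a b : Vec}
    (ha : S.Centre a) (hb : S.Centre b) (hab : B a b = 1) {w : Vec} (haw : B a w = 0)
    (hbw : B b w = 0) (h : S.γ a w ≠ 0) :
    S.γ b ((S.γ a w)⁻¹ • w) = (S.γ a w)⁻¹ := by
  have hba : B b a = 1 := by rw [B_comm]; exact hab
  set g := S.γ a w with hg
  have hr : ∀ r : F, r ≠ 0 → S.γ b (r • w) ≠ 0 := fun r hr =>
    (pair_ne hN hq ha hb hab haw hbw h hr).1
  obtain ⟨t, ht⟩ := (Finite.injective_iff_surjective.1 (γ_line_inj hN hb hbw hr)) g⁻¹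
  change S.γ b (t • w) = g⁻¹ at ht
  suffices t = g⁻¹ by rwa [this] at ht
  by_contra hne
  have hw0 : w ≠ 0 := fun h0 => h (by rw [hg, h0, γ_zero hN ha])
  set k := t + g⁻¹ with hk
  have hk0 : k ≠ 0 := fun h0 => hne (CharTwo.add_eq_zero.1 h0)
  have h2 := el_opp ha hba (w := t • w) (by rw [map_smul, hbw, smul_zero])
    (by rw [map_smul, haw, smul_zero]) (ht ▸ γ_mem hb (by rw [map_smul, hbw, smul_zero]))
  have h3 := centre_map (γ_mem ha haw) h2
  have e : (el a w g : Mat) *ᵥ (a + t • w + g⁻¹ • b) = k • w + g⁻¹ • b := by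
    rw [el_apply haw]
    simp only [map_add, map_smul, LinearMap.add_apply, LinearMap.smul_apply, smul_eq_mul,
      Symp.B_self, hba, haw, hbw, B_comm a w, mul_zero, mul_one, add_zero, zero_add, zero_smul]
    rw [hk]
    match_scalars <;> field_simp <;> ring_nf <;> simp [CharTwo.two_eq_zero]
  rw [e] at h3
  have h4 := γ_orth hN hq hb h3 (fun u hu => ?_)
    (by rw [map_add, map_smul, map_smul, hbw, Symp.B_self, smul_zero, smul_zero, add_zero]) k⁻¹
  · rw [smul_add, smul_smul, smul_smul, inv_mul_cancel₀ hk0, one_smul, γ_add_self hN hb hbw] at h4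
    exact hr 1 one_ne_zero (by rw [one_smul]; exact h4)
  · have h5 := congrArg (fun v => B a v) hu
    simp only [map_add, map_smul, hab, haw, smul_zero, zero_add, smul_eq_mul, mul_one, mul_zero] at h5
    rw [← h5, add_eq_right, smul_eq_zero] at hu
    exact hu.elim hk0 hw0

/-- conjugation by the element exchanging the two points -/
theorem pair_swap (hN : ¬ S.HasTrv S.a) (hq : 2 < Fintype.card F ∨ 3 ≤ m) {a b : Vec}
    (ha : S.Centre a) (hb : S.Centre b) (hab : B a b = 1) {w : Vec} (haw : B a w = 0)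
    (hbw : B b w = 0) (h : S.γ a w ≠ 0) (x : F) :
    S.γ b ((x / S.γ a w) • w) = S.γ a (x • w) / (S.γ a w * S.γ a w) := by
  have hba : B b a = 1 := by rw [B_comm]; exact hab
  have hi := pair_inv hN hq ha hb hab haw hbw h
  set g := S.γ a w with hg
  have hbw' : B b (g⁻¹ • w) = 0 := by rw [map_smul, hbw, smul_zero]
  set n := el a w g * el b (g⁻¹ • w) g⁻¹ * el a w g with hn
  have hnL : n ∈ S.L :=
    mul_mem (mul_mem (γ_mem ha haw) (by have := γ_mem hb hbw'; rwa [hi] at this)) (γ_mem ha haw)
  have hna : (n : Mat) *ᵥ a = g⁻¹ • b := by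
    rw [hn, mulVec_mul_GL, mulVec_mul_GL, el_apply (x := a) haw, Symp.B_self, haw]
    simp only [mul_zero, zero_smul, add_zero]
    rw [el_apply hbw', hab, el_apply haw]
    simp only [map_add, map_smul, LinearMap.add_apply, LinearMap.smul_apply, smul_eq_mul,
      Symp.B_self, hba, haw, hbw, B_comm a w, mul_zero, mul_one, add_zero, zero_add, zero_smul]
    match_scalars <;> field_simp <;> ring_nf <;> simp [CharTwo.two_eq_zero]
  have hnw : (n : Mat) *ᵥ (x • w) = x • w := by
    have e1 : (el a w g : Mat) *ᵥ (x • w) = x • w := by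
      rw [el_apply haw]
      simp [B_comm a w, haw, Symp.B_self]
    have e2 : (el b (g⁻¹ • w) g⁻¹ : Mat) *ᵥ (x • w) = x • w := by
      rw [el_apply hbw']
      simp [B_comm b w, hbw, Symp.B_self]
    rw [hn, mulVec_mul_GL, mulVec_mul_GL, e1, e2, e1]
  have haxw : B a (x • w) = 0 := by rw [map_smul, haw, smul_zero]
  have h1 := mul_mem (mul_mem hnL (γ_mem ha haxw)) (inv_mem hnL)
  rw [el_conj (S.le hnL) haxw, hna, hnw, el_smul (by rw [map_smul, hbw, smul_zero]), smul_smul] at h1
  rw [div_eq_inv_mul x, div_eq_inv_mul _ (g * g), _root_.mul_inv_rev]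
  exact γ_eq hN hb (by rw [map_smul, hbw, smul_zero]) h1

/-- the parameters of a pair are quadratic and agree -/
theorem pair_main (hN : ¬ S.HasTrv S.a) (hq : 2 < Fintype.card F ∨ 3 ≤ m) {a b : Vec}
    (ha : S.Centre a) (hb : S.Centre b) (hab : B a b = 1) {w : Vec} (haw : B a w = 0)
    (hbw : B b w = 0) (k : F) :
    S.γ a (k • w) = k * k * S.γ a w ∧ S.γ b (k • w) = k * k * S.γ a w := by
  have hba : B b a = 1 := by rw [B_comm]; exact hab
  rcases eq_or_ne (S.γ a w) 0 with h | h
  · have hb0 := pair_zero hN hq ha hb hab haw hbw h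
    have h1 := hb0 1
    rw [one_smul] at h1
    rw [h, mul_zero, hb0 k, pair_zero hN hq hb ha hba hbw haw h1 k]
    exact ⟨rfl, rfl⟩
  set g := S.γ a w with hg
  have hinj : Function.Injective fun r : F => S.γ a (r • w) :=
    γ_line_inj hN ha haw fun r hr => (pair_ne hN hq ha hb hab haw hbw h hr).2
  have key : ∀ y z : F, z ≠ 0 → S.γ b ((y / z) • w) = S.γ a (y • w) / (z * z) := by
    intro y z hz
    obtain ⟨r, hr⟩ := (Finite.injective_iff_surjective.1 hinj) z
    change S.γ a (r • w) = z at hr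
    have hr0 : r ≠ 0 := fun h0 => hz (by rw [← hr, h0, zero_smul, γ_zero hN ha])
    have := pair_swap hN hq ha hb hab (w := r • w) (by rw [map_smul, haw, smul_zero])
      (by rw [map_smul, hbw, smul_zero]) (by rw [hr]; exact hz) (y / r)
    rwa [hr, smul_smul, smul_smul, div_mul_cancel₀ _ hr0, div_mul_eq_mul_div,
      div_mul_cancel₀ _ hr0] at this
  have hD : ∀ u : F, S.γ b (u • w) = u * u * g := by
    intro u
    rcases eq_or_ne u 0 with hu | hu
    · rw [hu, zero_smul, γ_zero hN hb]; ring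
    have := key 1 u⁻¹ (inv_ne_zero hu)
    rw [one_smul, ← hg] at this
    rw [one_div, inv_inv] at this
    rw [this]
    field_simp
  refine ⟨?_, hD k⟩
  have := key k 1 one_ne_zero
  rw [div_one, one_mul, div_one, hD] at this
  exact this.symm

/-- the quadratic form of a pair of opposite centres -/
noncomputable def pairQuad (hN : ¬ S.HasTrv S.a) (hq : 2 < Fintype.card F ∨ 3 ≤ m) {a b : Vec}
    (ha : S.Centre a) (hb : S.Centre b) (hab : B a b = 1) : QuadraticForm F Vec where
  toFun v := B v b * B v a + S.γ a (pproj a b v)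
  toFun_smul t v := by
    simp only [smul_eq_mul, map_smul, LinearMap.smul_apply, pproj_smul]
    rw [(pair_main hN hq ha hb hab (pproj_perp hab v).1 (pproj_perp hab v).2 t).1]
    ring
  exists_companion' := ⟨B, fun x y => by
    have hx := pproj_perp hab x
    have hy := pproj_perp hab y
    have hba : B b a = 1 := by rw [B_comm]; exact hab
    have e : B x y = B x b * B y a + B x a * B y b + B (pproj a b y) (pproj a b x) := by
      conv_lhs => rw [pproj_dec a b x, pproj_dec a b y]
      simp only [map_add, map_smul, LinearMap.add_apply, LinearMap.smul_apply, smul_eq_mul,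
        Symp.B_self, hab, hba, hx.1, hx.2, hy.1, hy.2, B_comm a (pproj a b x),
        B_comm b (pproj a b x)]
      rw [B_comm (pproj a b y) (pproj a b x)]
      ring
    simp only [map_add, LinearMap.add_apply, pproj_add, γ_add hN ha hx.1 hy.1]
    rw [e]
    ring⟩

theorem pairQuad_apply (hN : ¬ S.HasTrv S.a) (hq : 2 < Fintype.card F ∨ 3 ≤ m) {a b : Vec}
    (ha : S.Centre a) (hb : S.Centre b) (hab : B a b = 1) (v : Vec) :
    pairQuad hN hq ha hb hab v = B v b * B v a + S.γ a (pproj a b v) := rfl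

end Setup

end Cfsg.Agent.Forms.Max.TwoRoot
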