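import Mathlib
import Cfsg.Agent.Lib.Forms.Max.TwoRoot.Pair

/-!
# All singular vectors of the quadratic form are centres
-/

set_option autoImplicit false
set_option linter.unusedSectionVars false

namespace Cfsg.Agent.Forms.Max.TwoRoot

open Matrix Cfsg.Agent.Aschbacher Cfsg.Agent.Forms.SympStd Cfsg.Agent.Forms.Max

variable {F : Type*} [Field F] [CharP F 2] {m : ℕ}

local notation "Vec" => (Fin m ⊕ Fin m → F)
local notation "GLm" => GL (Fin m ⊕ Fin m) F
local notation "B" => sympB m F
local notation "Mat" => Matrix (Fin m ⊕ Fin m) (Fin m ⊕ Fin m) F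

variable {Q : QuadraticForm F (Fin m ⊕ Fin m → F)}

theorem Q_add (hpol : ∀ u v, QuadraticMap.polar ⇑Q u v = B u v) (x y : Vec) :
    Q (x + y) = Q x + Q y + B x y := by
  rw [← hpol, QuadraticMap.polar]; ring

theorem Q_smul (t : F) (x : Vec) : Q (t • x) = t * t * Q x := by
  simp [QuadraticMap.map_smul]

/-- the elements attached to singular vectors preserve the form -/
theorem el_preserves (hpol : ∀ u v, QuadraticMap.polar ⇑Q u v = B u v) {c w : Vec} (hc : Q c = 0)
    (h : B c w = 0) (x : Vec) : Q ((el c w (Q w) : Mat) *ᵥ x) = Q x := by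
  rw [el_apply h]
  simp only [Q_add hpol, Q_smul, map_add, map_smul, LinearMap.add_apply, LinearMap.smul_apply,
    smul_eq_mul, Symp.B_self, hc, h, B_comm c w]
  linear_combination (B x c * B x c * Q w + B x c * B x w) * CharTwo.two_eq_zero (R := F)

namespace Setup

variable {S : Setup F m}

/-- singular centres whose lifts are given by the form -/
def Good (S : Setup F m) (Q : QuadraticForm F (Fin m ⊕ Fin m → F)) (c : Fin m ⊕ Fin m → F) : Prop :=
  S.Centre c ∧ Q c = 0 ∧ ∀ w, sympB m F c w = 0 → el c w (Q w) ∈ S.L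

theorem good_smul {c : Vec} (hc : S.Good Q c) {t : F} (ht : t ≠ 0) : S.Good Q (t • c) := by
  refine ⟨centre_smul hc.1 ht, by rw [Q_smul, hc.2.1, mul_zero], fun w hw => ?_⟩
  rw [map_smul, LinearMap.smul_apply, smul_eq_zero, or_iff_right ht] at hw
  rw [el_smul hw, ← Q_smul]
  exact hc.2.2 _ (by rw [map_smul, hw, smul_zero])

theorem good_map {c : Vec} (hc : S.Good Q c) {g : GLm} (hg : g ∈ S.L)
    (hQ : ∀ v, Q ((g : Mat) *ᵥ v) = Q v) : S.Good Q ((g : Mat) *ᵥ c) := by
  refine ⟨centre_map hg hc.1, by rw [hQ, hc.2.1], fun w hw => ?_⟩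
  rw [← mulVec_inv_cancel g w, Symp.mem_spGL_iff.1 (S.le hg)] at hw
  have h := mul_mem (mul_mem hg (hc.2.2 _ hw)) (inv_mem hg)
  rw [el_conj (S.le hg) hw, mulVec_inv_cancel] at h
  rwa [← hQ, mulVec_inv_cancel] at h

theorem good_pair (hpol : ∀ u v, QuadraticMap.polar ⇑Q u v = B u v) {p q : Vec} (hp : S.Good Q p)
    (hq : S.Good Q q) (hpq : B p q = 1) {z : Vec} (hz : Q z = 0) (hzp : B z p ≠ 0) :
    S.Good Q z := by
  suffices h : ∀ z, Q z = 0 → B z p = 1 → S.Good Q z by
    have := good_smul (h ((B z p)⁻¹ • z) (by rw [Q_smul, hz, mul_zero])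
      (by rw [map_smul, LinearMap.smul_apply, smul_eq_mul, inv_mul_cancel₀ hzp])) hzp
    rwa [smul_smul, mul_inv_cancel₀ hzp, one_smul] at this
  intro z hz hzp
  obtain ⟨w, hpw, hqw, hdec⟩ := decomp hpq z
  rw [hzp, one_smul] at hdec
  have hx : B z q = Q w := by
    rw [hdec, Q_add hpol, Q_add hpol, Q_smul, hp.2.1, hq.2.1] at hz
    simp only [map_add, map_smul, LinearMap.add_apply, LinearMap.smul_apply, smul_eq_mul, hpw, hqw,
      hpq, mul_one, mul_zero, zero_add, add_zero] at hz
    exact CharTwo.add_eq_zero.1 hz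
  have e : (el p w (Q w) : Mat) *ᵥ q = z := by
    rw [el_apply hpw, B_comm p q, hpq, hqw, one_smul, zero_smul, add_zero, mul_one]
    rw [hdec, hx]
    abel
  rw [← e]
  exact good_map hq (hp.2.2 w hpw) (el_preserves hpol hp.2.1 hpw)

theorem good_of_singular (hpol : ∀ u v, QuadraticMap.polar ⇑Q u v = B u v) {a b : Vec}
    (ha : S.Good Q a) (hb : S.Good Q b) (hab : B a b = 1) {z : Vec} (hz : Q z = 0) (hz0 : z ≠ 0) :
    S.Good Q z := by
  have hba : B b a = 1 := by rw [B_comm]; exact hab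
  by_cases hza : B z a = 0
  swap
  · exact good_pair hpol ha hb hab hz hza
  by_cases hzb : B z b = 0
  swap
  · exact good_pair hpol hb ha hba hz hzb
  obtain ⟨y, hy⟩ : ∃ y, B z y ≠ 0 := by
    by_contra h
    push Not at h
    exact hz0 (Symp.nondeg.1 z h)
  obtain ⟨w, haw, hbw, hdec⟩ := decomp hab y
  have hzw : B z w ≠ 0 := fun h => hy (by
    rw [hdec]; simp [hza, hzb, h])
  set p := Q w • a + b + w with hp
  have hpa : B p a = 1 := by
    rw [hp]
    simp [Symp.B_self, hba, B_comm a w, haw]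
  have hQp : Q p = 0 := by
    rw [hp, Q_add hpol, Q_add hpol, Q_smul, ha.2.1, hb.2.1]
    simp only [map_add, map_smul, LinearMap.add_apply, LinearMap.smul_apply, smul_eq_mul, haw, hbw,
      hab]
    linear_combination Q w * CharTwo.two_eq_zero (R := F)
  have hpg := good_pair hpol ha hb hab hQp (by rw [hpa]; exact one_ne_zero)
  exact good_pair hpol hpg ha hpa hz (by
    rw [hp]; simp [hza, hzb, hzw])

variable [Fintype F]

/-- without transvections, the lifts at all centres come from one quadratic form -/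
theorem exists_quad (hN : ¬ S.HasTrv S.a) (hq : 2 < Fintype.card F ∨ 3 ≤ m) :
    ∃ Q : QuadraticForm F Vec, (∀ u v, QuadraticMap.polar ⇑Q u v = B u v) ∧
      ∃ a b, S.Good Q a ∧ S.Good Q b ∧ B a b = 1 := by
  have ha := S.centre_self
  obtain ⟨b, hb, hab⟩ := exists_opp ha
  set a := S.a
  have hba : B b a = 1 := by rw [B_comm]; exact hab
  let Q := pairQuad hN hq ha hb hab
  have hQ : ∀ v, Q v = B v b * B v a + S.γ a (pproj a b v) := fun v => rfl
  have hpol : ∀ u v, QuadraticMap.polar ⇑Q u v = B u v := by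
    intro u v
    have hu := pproj_perp hab u
    have hv := pproj_perp hab v
    have e : B u v = B u b * B v a + B u a * B v b + B (pproj a b v) (pproj a b u) := by
      conv_lhs => rw [pproj_dec a b u, pproj_dec a b v]
      simp only [map_add, map_smul, LinearMap.add_apply, LinearMap.smul_apply, smul_eq_mul,
        Symp.B_self, hab, hba, hu.1, hu.2, hv.1, hv.2, B_comm a (pproj a b u),
        B_comm b (pproj a b u)]
      rw [B_comm (pproj a b v) (pproj a b u)]
      ring
    rw [QuadraticMap.polar, hQ, hQ, hQ, pproj_add, γ_add hN ha hu.1 hv.1, e]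
    simp only [map_add, LinearMap.add_apply]
    ring
  refine ⟨Q, hpol, a, b, ⟨ha, ?_, fun w hw => ?_⟩, ⟨hb, ?_, fun w hw => ?_⟩, hab⟩
  · rw [hQ, Symp.B_self, mul_zero, zero_add, pproj, hab, Symp.B_self, one_smul, zero_smul,
      add_zero, ← two_smul F a, CharTwo.two_eq_zero, zero_smul, γ_zero hN ha]
  · have hp := pproj_perp hab w
    have e : pproj a b w = w + B w b • a := by
      rw [pproj, B_comm a w, hw, zero_smul, add_zero]
    rw [hQ, B_comm a w, hw, mul_zero, zero_add]
    have := γ_mem ha hp.1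
    rw [e] at this ⊢
    rwa [el_add_self hw] at this
  · rw [hQ, Symp.B_self, zero_mul, zero_add, pproj, hba, Symp.B_self, one_smul, zero_smul,
      add_zero, ← two_smul F b, CharTwo.two_eq_zero, zero_smul, γ_zero hN ha]
  · have hp := pproj_perp hab w
    have e : pproj a b w = w + B w a • b := by
      rw [pproj, B_comm b w, hw, zero_smul, add_zero]
    rw [hQ, B_comm b w, hw, zero_mul, zero_add]
    have h := (pair_main hN hq ha hb hab hp.1 hp.2 1).2
    rw [one_smul, one_mul, one_mul] at h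
    have := γ_mem hb hp.2
    rw [h, e] at this
    rw [e]
    rwa [el_add_self hw] at this

theorem exists_singular_perp (hm : 2 ≤ m) (hpol : ∀ u v, QuadraticMap.polar ⇑Q u v = B u v) {a b : Vec}
    (ha : Q a = 0) (hb : Q b = 0) (hab : B a b = 1) (c : Vec) :
    ∃ d, d ≠ 0 ∧ Q d = 0 ∧ B c d = 0 := by
  have hba : B b a = 1 := by rw [B_comm]; exact hab
  obtain ⟨w, haw, hbw, hdec⟩ := decomp hab c
  have ha0 : a ≠ 0 := fun h => by simp [h] at hab
  have hb0 : b ≠ 0 := fun h => by simp [h] at hab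
  rcases eq_or_ne (B c a) 0 with hy | hy
  · exact ⟨a, ha0, ha, hy⟩
  rcases eq_or_ne (B c b) 0 with hx | hx
  · exact ⟨b, hb0, hb, hx⟩
  suffices h : ∃ u, B a u = 0 ∧ B b u = 0 ∧ B c b + B c a * Q u + B w u = 0 by
    obtain ⟨u, hau, hbu, hu⟩ := h
    refine ⟨Q u • a + b + u, fun h0 => ?_, ?_, ?_⟩
    · have := congrArg (fun v => B a v) h0
      simp [Symp.B_self, hab, hau] at this
    · rw [Q_add hpol, Q_add hpol, Q_smul, ha, hb]
      simp only [map_add, map_smul, LinearMap.add_apply, LinearMap.smul_apply, smul_eq_mul, hau,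
        hbu, hab]
      linear_combination Q u * CharTwo.two_eq_zero (R := F)
    · have hcu : B c u = B w u := by
        conv_lhs => rw [hdec]
        simp [hau, hbu]
      simp only [map_add, map_smul, smul_eq_mul, hcu]
      linear_combination hu
  by_cases hw : w ≠ 0 ∧ Q w = 0
  · obtain ⟨hw0, hQw⟩ := hw
    obtain ⟨y, hy'⟩ : ∃ y, B w y ≠ 0 := by
      by_contra h
      push Not at h
      exact hw0 (Symp.nondeg.1 w h)
    obtain ⟨e, hae, hbe, hyd⟩ := decomp hab y
    have hwe : B w e ≠ 0 := fun h => hy' (by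
      rw [hyd]; simp [B_comm a w, B_comm b w, haw, hbw, h])
    set r := (B w e)⁻¹ with hr
    set s := ((B c b + 1) / B c a + r * r * Q e) with hs
    refine ⟨r • e + s • w, by simp [hae, haw], by simp [hbe, hbw], ?_⟩
    rw [Q_add hpol, Q_smul, Q_smul, hQw]
    simp only [map_add, map_smul, LinearMap.smul_apply, smul_eq_mul, Symp.B_self, B_comm w e]
    rw [show r * B w e = 1 from inv_mul_cancel₀ hwe]
    rw [hs]
    field_simp
    linear_combination (B c a * (B c b + B c a * r * r * Q e + 1)) * CharTwo.two_eq_zero (R := F)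
  obtain ⟨e, hae, hbe, hwe, hQe⟩ : ∃ e, B a e = 0 ∧ B b e = 0 ∧ B w e = 0 ∧ Q e ≠ 0 := by
    rcases eq_or_ne w 0 with rfl | hw0
    · obtain ⟨e, he0, hae, hbe⟩ := exists_perp hm a b
      by_cases hQe : Q e = 0
      swap
      · exact ⟨e, hae, hbe, by simp, hQe⟩
      obtain ⟨y, hey⟩ : ∃ y, B e y ≠ 0 := by
        by_contra h
        push Not at h
        exact he0 (Symp.nondeg.1 e h)
      obtain ⟨f, haf, hbf, hyd⟩ := decomp hab y
      have hef : B e f ≠ 0 := fun h => hey (by
        rw [hyd]; simp [B_comm a e, B_comm b e, hae, hbe, h])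
      by_cases hQf : Q f = 0
      swap
      · exact ⟨f, haf, hbf, by simp, hQf⟩
      exact ⟨e + f, by simp [hae, haf], by simp [hbe, hbf], by simp,
        by rw [Q_add hpol, hQe, hQf, zero_add, zero_add]; exact hef⟩
    · exact ⟨w, haw, hbw, Symp.B_self w, fun h => hw ⟨hw0, h⟩⟩
  obtain ⟨r, hr⟩ := exists_sq (B c b / (B c a * Q e))
  refine ⟨r • e, by simp [hae], by simp [hbe], ?_⟩
  rw [Q_smul, map_smul, hwe, smul_zero, add_zero, hr]
  field_simp
  linear_combination (B c b) * CharTwo.two_eq_zero (R := F)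

/-- every element of the group is an isometry -/
theorem preserves (hN : ¬ S.HasTrv S.a) (hq : 2 < Fintype.card F ∨ 3 ≤ m)
    (hpol : ∀ u v, QuadraticMap.polar ⇑Q u v = B u v) {a b : Vec} (ha : S.Good Q a)
    (hb : S.Good Q b) (hab : B a b = 1) {g : GLm} (hg : g ∈ S.L) (v : Vec) :
    Q ((g : Mat) *ᵥ v) = Q v := by
  have hperp := exists_singular_perp S.hm hpol ha.2.1 hb.2.1 hab
  have hcen : ∀ c, S.Centre c → Q c = 0 := by
    intro c hc
    by_contra hQc
    obtain ⟨d, hd0, hQd, hcd⟩ := hperp c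
    have hdc : B d c = 0 := by rw [B_comm]; exact hcd
    have hd := good_of_singular hpol ha hb hab hQd hd0
    have hne : ∀ t : F, c ≠ t • d := fun t ht => hQc (by rw [ht, Q_smul, hQd, mul_zero])
    have h1 := γ_orth hN hq hd.1 hc hne hdc 1
    rw [one_smul] at h1
    exact hQc ((γ_eq hN hd.1 hdc (hd.2.2 c hdc)).symm.trans h1)
  obtain ⟨d, hd0, hQd, hvd⟩ := hperp v
  have hdv : B d v = 0 := by rw [B_comm]; exact hvd
  have hd := good_of_singular hpol ha hb hab hQd hd0
  have hgd := good_of_singular hpol ha hb hab (hcen _ (centre_map hg hd.1))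
    (centre_ne (centre_map hg hd.1))
  have hgv : B ((g : Mat) *ᵥ d) ((g : Mat) *ᵥ v) = 0 := by
    rw [Symp.mem_spGL_iff.1 (S.le hg), hdv]
  have h1 := mul_mem (mul_mem hg (hd.2.2 v hdv)) (inv_mem hg)
  rw [el_conj (S.le hg) hdv] at h1
  exact el_uniq hN hgd.1 hgv (hgd.2.2 _ hgv) h1

end Setup

end Cfsg.Agent.Forms.Max.TwoRoot
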