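import Mathlib
import Cfsg.Agent.Lib.Forms.Max.TwoRoot.Quad
import Cfsg.Agent.Lib.Classical.OrthEichler

/-!
# The groups in the absence of transvections
-/

set_option autoImplicit false
set_option linter.unusedSectionVars false

namespace Cfsg.Agent.Forms.Max.TwoRoot

open Matrix Cfsg.Agent.Aschbacher Cfsg.Agent.Forms.SympStd Cfsg.Agent.Forms.Max
open Cfsg.Agent.Forms.Reflections Cfsg.Agent.Forms.QuadStd

variable {F : Type*} [Field F] [CharP F 2] {m : ℕ}

local notation "Vec" => (Fin m ⊕ Fin m → F)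
local notation "GLm" => GL (Fin m ⊕ Fin m) F
local notation "B" => sympB m F
local notation "Mat" => Matrix (Fin m ⊕ Fin m) (Fin m ⊕ Fin m) F

variable {Q : QuadraticForm F (Fin m ⊕ Fin m → F)}

theorem polar_nondeg (hpol : ∀ u v, QuadraticMap.polar ⇑Q u v = B u v) :
    (QuadraticMap.polarBilin Q).Nondegenerate := by
  rw [show QuadraticMap.polarBilin Q = B from LinearMap.ext fun u => LinearMap.ext fun v => hpol u v]
  exact Symp.nondeg

/-- the values on the perpendicular of a pair -/
theorem exists_value_perp [Fintype F] (hm : 2 ≤ m) (hpol : ∀ u v, QuadraticMap.polar ⇑Q u v = B u v)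
    {a b : Vec} (hab : B a b = 1) (t : F) : ∃ w, B a w = 0 ∧ B b w = 0 ∧ Q w = t := by
  obtain ⟨e, hae, hbe, hQe⟩ : ∃ e, B a e = 0 ∧ B b e = 0 ∧ Q e ≠ 0 := by
    obtain ⟨e, he0, hae, hbe⟩ := exists_perp hm a b
    obtain ⟨y, hey⟩ : ∃ y, B e y ≠ 0 := by
      by_contra h
      push Not at h
      exact he0 (Symp.nondeg.1 e h)
    obtain ⟨f, haf, hbf, hyd⟩ := decomp hab y
    have hef : B e f ≠ 0 := fun h => hey (by
      rw [hyd]; simp [B_comm a e, B_comm b e, hae, hbe, h])
    by_cases hQe : Q e = 0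
    swap
    · exact ⟨e, hae, hbe, hQe⟩
    by_cases hQf : Q f = 0
    swap
    · exact ⟨f, haf, hbf, hQf⟩
    exact ⟨e + f, by simp [hae, haf], by simp [hbe, hbf],
      by rw [Q_add hpol, hQe, hQf, zero_add, zero_add]; exact hef⟩
  obtain ⟨r, hr⟩ := Setup.exists_sq (t / Q e)
  exact ⟨r • e, by simp [hae], by simp [hbe], by rw [Q_smul, hr, div_mul_cancel₀ _ hQe]⟩

theorem eich_act (hpol : ∀ u v, QuadraticMap.polar ⇑Q u v = B u v) {u w : Vec} (hu : Q u = 0)
    (huw : QuadraticMap.polar ⇑Q u w = 0) :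
    ((Classical.Orth.eich u w hu huw : Cfsg.isometryGroup F ⇑Q) : GLm) = el u w (Q w) := by
  refine gl_ext fun x => ?_
  have h := Classical.Orth.act_eich hu huw x
  rw [act_apply, hpol, hpol] at h
  rw [el_apply (by rw [← hpol]; exact huw)]
  refine h.trans ?_
  match_scalars <;> ring_nf <;> simp [CharTwo.sub_eq_add, CharTwo.neg_eq]

/-- Eichler transformations are even -/
theorem par_eich [Fintype F] (hm : 2 ≤ m) (hpol : ∀ u v, QuadraticMap.polar ⇑Q u v = B u v)
    {u w : Vec} (hu : Q u = 0) (huw : QuadraticMap.polar ⇑Q u w = 0) :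
    par (Classical.Orth.eich u w hu huw) = 1 := by
  rcases eq_or_ne u 0 with rfl | hu0
  · rw [Classical.Orth.eich_zero_left]; exact par_one
  by_cases hdep : ∃ s : F, w = s • u
  · obtain ⟨s, rfl⟩ := hdep
    have h0 : QuadraticMap.polar ⇑Q u 0 = 0 := by simp [hpol]
    rw [Classical.Orth.eich_congr (show s • u = 0 + s • u by rw [zero_add]),
      Classical.Orth.eich_add_self s hu h0, Classical.Orth.eich_zero_right]
    exact par_one
  push Not at hdep
  have hBuw : B u w = 0 := by rw [← hpol]; exact huw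
  have hw0 : w ≠ 0 := fun h => hdep 0 (by rw [h, zero_smul])
  have hfix : fixSp (Classical.Orth.eich u w hu huw) = LinearMap.ker ((B u).prod (B w)) := by
    ext x
    rw [mem_fixSp, Classical.Orth.act_eich, hpol, hpol, LinearMap.mem_ker, LinearMap.prod_apply]
    constructor
    · intro h
      have h1 : B x u • w = (B x w + Q w * B x u) • u := by
        rw [add_smul]
        linear_combination (norm := module) h
      have h2 : B x u = 0 := by
        by_contra hne
        exact hdep ((B x u)⁻¹ * (B x w + Q w * B x u))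
          (by rw [← smul_smul, ← h1, smul_smul, inv_mul_cancel₀ hne, one_smul])
      rw [h2, zero_smul, mul_zero, add_zero, eq_comm, smul_eq_zero, or_iff_left hu0] at h1
      exact Prod.ext ((B_comm x u).trans h2) ((B_comm x w).trans h1)
    · intro h
      have h2 : B x u = 0 := by rw [B_comm]; exact congrArg Prod.fst h
      have h3 : B x w = 0 := by rw [B_comm]; exact congrArg Prod.snd h
      simp [h2, h3]
  have hsurj : LinearMap.range ((B u).prod (B w)) = ⊤ := by
    refine LinearMap.range_eq_top.2 fun p => ?_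
    obtain ⟨y, hy, hyw⟩ := exists_dual hu0 hdep p.2
    obtain ⟨z, hz, hzu⟩ := exists_dual (c := w) (d := u) hw0 (fun t ht => by
      rcases eq_or_ne t 0 with rfl | ht0
      · exact hu0 (by rw [ht, zero_smul])
      · exact hdep t⁻¹ (by rw [ht, smul_smul, inv_mul_cancel₀ ht0, one_smul])) p.1
    refine ⟨y + z, Prod.ext ?_ ?_⟩
    · show B u (y + z) = p.1
      rw [map_add, hy, zero_add, B_comm, hzu]
    · show B w (y + z) = p.2
      rw [map_add, hz, add_zero, B_comm, hyw]
  have hrk := LinearMap.finrank_range_add_finrank_ker ((B u).prod (B w))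
  rw [hsurj, finrank_top, Module.finrank_prod, Module.finrank_self, finrank_vec, ← hfix] at hrk
  rw [par, show Fintype.card (Fin m ⊕ Fin m) = 2 * m by simp [two_mul]]
  exact Even.neg_one_pow ⟨Module.finrank F (fixSp (Classical.Orth.eich u w hu huw)) + 1, by omega⟩

theorem even_rank_iff (g : Cfsg.isometryGroup F ⇑Q) :
    Even ((((g : GLm) : Mat)) - 1).rank ↔ par g = 1 := by
  have h0 : (((g : GLm) : Mat) - 1).rank = Module.finrank F ↥(imSp g) := by
    have e : act g - LinearMap.id = (((g : GLm) : Mat) - 1).mulVecLin := by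
      rw [act, ← Matrix.toLin'_one, ← map_sub, Matrix.toLin'_apply']
    rw [Matrix.rank, imSp, e]
  have h1 := LinearMap.finrank_range_add_finrank_ker (act g - LinearMap.id)
  rw [Module.finrank_pi] at h1
  change Module.finrank F ↥(imSp g) + Module.finrank F ↥(fixSp g) = _ at h1
  have hpar : par g = 1 ↔ Even (Module.finrank F ↥(fixSp g) + Fintype.card (Fin m ⊕ Fin m)) :=
    neg_one_pow_eq_one_iff_even (by decide)
  rw [hpar, h0, ← h1]
  constructor
  · rintro ⟨k, hk⟩; exact ⟨Module.finrank F ↥(fixSp g) + k, by omega⟩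
  · rintro ⟨k, hk⟩; exact ⟨k - Module.finrank F ↥(fixSp g), by omega⟩

/-- subgroups of the orthogonal group over the group generated by Eichler transformations -/
theorem overgroups [Fintype F] (hm : 2 ≤ m) (hsize : Fintype.card F ≠ 2 ∨ 3 ≤ m)
    (hpol : ∀ u v, QuadraticMap.polar ⇑Q u v = B u v) {a b : Vec} (ha : Q a = 0) (hb : Q b = 0)
    (hab : B a b = 1) {L : Subgroup GLm} (hle : L ≤ Cfsg.isometryGroup F ⇑Q)
    (hE : Classical.Orth.eGroup Q ⊤ ≤ L.subgroupOf (Cfsg.isometryGroup F ⇑Q)) :
    L = Cfsg.isometryGroup F ⇑Q ∨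
      ∀ g : GLm, g ∈ L ↔ (g ∈ Cfsg.isometryGroup F ⇑Q ∧ Even ((g : Mat) - 1).rank) := by
  have hnd := polar_nondeg hpol
  set E := Classical.Orth.eGroup Q ⊤ with hEdef
  have hnorm : E.Normal := Classical.Orth.eGroup_top_normal
  have hp : Classical.Orth.IsPair Q a b := ⟨ha, hb, by rw [hpol]; exact hab⟩
  have hQ1 : Q (a + b) = 1 := by rw [Q_add hpol, ha, hb, hab, zero_add, zero_add]
  set r := reflect Q (a + b) with hr
  have hrr : r * r = 1 := reflect_sq _
  have hrefl : ∀ v, Q v ≠ 0 → reflect Q v * r ∈ E := by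
    intro v hv
    obtain ⟨t, ht⟩ := Setup.exists_sq (Q v)⁻¹
    have ht0 : t ≠ 0 := fun h => inv_ne_zero hv (by rw [← ht, h, zero_mul])
    have hv' : Q (t • v) = 1 := by rw [Q_smul, ht, inv_mul_cancel₀ hv]
    have hrs : reflect Q (t • v) = reflect Q v := Classical.Orth.act_ext fun x => by
      rw [act_reflect, act_reflect, hv', smul_smul, QuadraticMap.polar_smul_left, smul_eq_mul, ← ht]
      congr 2
      ring
    obtain ⟨g, hg, hgv⟩ := Classical.Orth.level_move (S := ⊤) hp trivial trivial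
      (fun z _ hz => hnd.1 z fun s => hz s trivial)
      (fun c => by
        obtain ⟨w, h1, h2, h3⟩ := exists_value_perp hm hpol hab c
        exact ⟨w, trivial, by rw [hpol]; exact h1, by rw [hpol]; exact h2, h3⟩)
      (z := t • v) trivial (by rw [hv']; exact one_ne_zero)
    rw [hv', one_smul] at hgv
    have hc : g * reflect Q (t • v) * g⁻¹ = r := by rw [Spinor.reflect_conj, hgv]
    rw [hrs] at hc
    have he : reflect Q v * r = g⁻¹ * (r * g * r⁻¹) := by
      rw [← hc, inv_eq_of_mul_eq_one_right (show (g * reflect Q v * g⁻¹) * (g * reflect Q v * g⁻¹) = 1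
        by rw [hc]; exact hrr)]
      group
    rw [he]
    exact mul_mem (inv_mem hg) (hnorm.conj_mem _ hg r)
  have hri : r⁻¹ = r := inv_eq_of_mul_eq_one_right hrr
  have hcj : ∀ y ∈ E, r * y * r ∈ E := fun y hy => by
    have := hnorm.conj_mem _ hy r
    rwa [hri] at this
  have htop : refGroup Q = ⊤ := refGroup_eq_top hnd (hsize.imp id fun h => by simp; omega)
  have hcover : ∀ g : Cfsg.isometryGroup F ⇑Q, g ∈ E ∨ g * r ∈ E := by
    intro g
    have hg : g ∈ refGroup Q := htop ▸ Subgroup.mem_top g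
    induction hg using Subgroup.closure_induction with
    | mem x hx =>
      obtain ⟨v, hv, rfl⟩ := hx
      exact Or.inr (hrefl v hv)
    | one => exact Or.inl (one_mem _)
    | mul x y _ _ hx hy =>
      rcases hx with hx | hx <;> rcases hy with hy | hy
      · exact Or.inl (mul_mem hx hy)
      · exact Or.inr (by rw [mul_assoc]; exact mul_mem hx hy)
      · refine Or.inr ?_
        have := mul_mem hx (hcj y hy)
        rwa [show x * r * (r * y * r) = x * (r * r) * y * r by group, hrr, mul_one] at this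
      · refine Or.inl ?_
        have := mul_mem hx (hcj _ hy)
        rwa [show x * r * (r * (y * r) * r) = x * (r * r) * y * (r * r) by group, hrr, mul_one,
          mul_one] at this
    | inv x _ hx =>
      rcases hx with hx | hx
      · exact Or.inl (inv_mem hx)
      · refine Or.inr ?_
        have := hcj _ (inv_mem hx)
        rw [_root_.mul_inv_rev, hri, show r * (r * x⁻¹) * r = r * r * (x⁻¹ * r) by group, hrr,
          one_mul] at this
        exact this
  have hpE : ∀ g ∈ E, par g = 1 := by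
    intro g hg
    induction hg using Subgroup.closure_induction with
    | mem x hx =>
      obtain ⟨u, w, hu, huw, -, -, rfl⟩ := hx
      exact par_eich hm hpol hu huw
    | one => exact par_one
    | mul x y _ _ hx hy => rw [par_mul hnd (htop ▸ Subgroup.mem_top x), hx, hy, one_mul]
    | inv x _ hx =>
      have := par_mul hnd (g := x) (htop ▸ Subgroup.mem_top x) x⁻¹
      rwa [mul_inv_cancel, par_one, hx, one_mul, eq_comm] at this
  by_cases hout : ∃ g ∈ L.subgroupOf (Cfsg.isometryGroup F ⇑Q), g ∉ E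
  · obtain ⟨g, hgL, hgE⟩ := hout
    have hgr := (hcover g).resolve_left hgE
    have hrL : r ∈ L.subgroupOf (Cfsg.isometryGroup F ⇑Q) := by
      have := mul_mem (inv_mem hgL) (hE hgr)
      rwa [inv_mul_cancel_left] at this
    refine Or.inl (le_antisymm hle fun g hg => ?_)
    rcases hcover ⟨g, hg⟩ with h | h
    · exact (hE h : (⟨g, hg⟩ : Cfsg.isometryGroup F ⇑Q) ∈ L.subgroupOf _)
    · have := mul_mem (hE h) hrL
      rwa [mul_assoc, hrr, mul_one] at this
  push Not at hout
  refine Or.inr fun g => ⟨fun hg => ⟨hle hg, ?_⟩, fun hg => ?_⟩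
  · exact (even_rank_iff ⟨g, hle hg⟩).2 (hpE _ (hout ⟨g, hle hg⟩ hg))
  · obtain ⟨hg, hev⟩ := hg
    rcases hcover ⟨g, hg⟩ with h | h
    · exact (hE h : (⟨g, hg⟩ : Cfsg.isometryGroup F ⇑Q) ∈ L.subgroupOf _)
    · exfalso
      have h1 := hpE _ h
      rw [par_mul hnd (htop ▸ Subgroup.mem_top _), (even_rank_iff ⟨g, hg⟩).1 hev, one_mul, hr] at h1
      have h2 := par_reflect_mul hnd (v := a + b) (by rw [hQ1]; exact one_ne_zero)
        (1 : Cfsg.isometryGroup F ⇑Q)
      rw [mul_one, par_one, h1] at h2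
      exact absurd h2 (by decide)

namespace Setup

variable {S : Setup F m} [Fintype F]

theorem classify_general (hN : ¬ S.HasTrv S.a) (hq : 2 < Fintype.card F ∨ 3 ≤ m) :
    ∃ Q : QuadraticForm F Vec, (∀ u v, QuadraticMap.polar ⇑Q u v = B u v) ∧
      (S.L = Cfsg.isometryGroup F ⇑Q ∨
        ∀ g : GLm, g ∈ S.L ↔ (g ∈ Cfsg.isometryGroup F ⇑Q ∧ Even ((g : Mat) - 1).rank)) := by
  obtain ⟨Q, hpol, a, b, ha, hb, hab⟩ := exists_quad hN hq
  refine ⟨Q, hpol, overgroups S.hm (hq.imp (fun h => by omega) id) hpol ha.2.1 hb.2.1 hab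
    (fun g hg => (mem_isometry_iff _ _).2 fun v => preserves hN hq hpol ha hb hab hg v) ?_⟩
  refine (Subgroup.closure_le _).2 ?_
  rintro _ ⟨u, w, hu, huw, -, -, rfl⟩
  show ((Classical.Orth.eich u w hu huw : Cfsg.isometryGroup F ⇑Q) : GLm) ∈ S.L
  rcases eq_or_ne u 0 with rfl | hu0
  · rw [Classical.Orth.eich_zero_left]; exact one_mem _
  rw [eich_act hpol]
  exact (good_of_singular hpol ha hb hab hu hu0).2.2 w (by rw [← hpol]; exact huw)

end Setup

end Cfsg.Agent.Forms.Max.TwoRoot
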