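import Mathlib
import Cfsg.Agent.Lib.Forms.Max.TwoRoot.Centres

/-!
# The normal two-subgroups of the stabiliser of a point
-/

set_option autoImplicit false
set_option linter.unusedSectionVars false

namespace Cfsg.Agent.Forms.Max.TwoRoot

open Matrix Cfsg.Agent.Aschbacher Cfsg.Agent.Forms.SympStd Cfsg.Agent.Forms.Max

variable {F : Type*} [Field F] [CharP F 2] [Fintype F] {m : ℕ}

local notation "Vec" => (Fin m ⊕ Fin m → F)
local notation "GLm" => GL (Fin m ⊕ Fin m) F
local notation "B" => sympB m F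
local notation "Mat" => Matrix (Fin m ⊕ Fin m) (Fin m ⊕ Fin m) F

/-- the orthogonal space of a point modulo the point -/
abbrev perpQuot (a : Vec) : Type _ :=
  (LinearMap.ker (B a)) ⧸ (Submodule.span F {a}).comap (LinearMap.ker (B a)).subtype

theorem natCard_perpQuot {a : Vec} (ha : a ≠ 0) :
    Nat.card (perpQuot a) = Fintype.card F ^ (2 * m - 2) := by
  classical
  rw [Module.natCard_eq_pow_finrank (K := F), Nat.card_eq_fintype_card]
  congr 1
  have hne : B a ≠ 0 := fun h => ha (Symp.nondeg.1 a fun y => by rw [h]; rfl)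
  have h1 := LinearMap.finrank_range_add_finrank_ker (B a)
  rw [finrank_vec, LinearMap.range_eq_top.2 (LinearMap.surjective hne), finrank_top,
    Module.finrank_self] at h1
  have hle : Submodule.span F {a} ≤ LinearMap.ker (B a) :=
    (Submodule.span_singleton_le_iff_mem _ _).2 (LinearMap.mem_ker.2 (Symp.B_self a))
  have h2 : Module.finrank F (perpQuot a) +
      Module.finrank F ↥((Submodule.span F {a}).comap (LinearMap.ker (B a)).subtype) =
      Module.finrank F ↥(LinearMap.ker (B a)) := Submodule.finrank_quotient_add_finrank _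
  rw [(Submodule.comapSubtypeEquivOfLe hle).finrank_eq, finrank_span_singleton ha] at h2
  omega

theorem perpQuot_eq {a : Vec} {x y : LinearMap.ker (B a)} :
    (Submodule.Quotient.mk x : perpQuot a) = Submodule.Quotient.mk y ↔
      ∃ s : F, (x : Vec) - y = s • a := by
  rw [Submodule.Quotient.eq, Submodule.mem_comap, Submodule.mem_span_singleton]
  exact exists_congr fun s => eq_comm

/-- normal two-subgroups of the stabiliser consist of radical elements -/
theorem exists_el (hm : 2 ≤ m) {a : Vec} (ha : a ≠ 0) {H : Subgroup GLm}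
    (hH : ∀ g, g ∈ H ↔ g ∈ Cfsg.spGL m F ∧ (g : Mat) *ᵥ a = a) (N : Subgroup H) [hN : N.Normal]
    (hp : IsPGroup 2 N) {n : H} (hn : n ∈ N) :
    ∃ w α, B a w = 0 ∧ (n : GLm) = el a w α := by
  classical
  set P := LinearMap.ker (B a) with hP
  have hfix : ∀ g : H, ((g : GLm) : Mat) *ᵥ a = a := fun g => ((hH g).1 g.2).2
  have hsymp : ∀ (g : H) u v, B (((g : GLm) : Mat) *ᵥ u) (((g : GLm) : Mat) *ᵥ v) = B u v :=
    fun g => Symp.mem_spGL_iff.1 ((hH g).1 g.2).1
  have hPmem : ∀ x, x ∈ P ↔ B a x = 0 := fun x => LinearMap.mem_ker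
  have hgP : ∀ (g : H) x, x ∈ P → ((g : GLm) : Mat) *ᵥ x ∈ P := fun g x hx => by
    rw [hPmem, ← hfix g, hsymp]; exact (hPmem x).1 hx
  -- a fixed class
  obtain ⟨x₀, hx₀, hx₀a, hx₀f⟩ : ∃ x ∈ P, (∀ s : F, x ≠ s • a) ∧
      ∀ g ∈ N, ∃ s : F, ((g : GLm) : Mat) *ᵥ x - x = s • a := by
    let act : N → (perpQuot a →ₗ[F] perpQuot a) := fun g =>
      Submodule.mapQ _ _ ((Matrix.mulVecLin ((g.1 : GLm) : Mat)).restrict fun x hx => hgP g.1 x hx)
        (fun x hx => by
          rw [Submodule.mem_comap, Submodule.mem_span_singleton] at hx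
          obtain ⟨s, hs⟩ := hx
          rw [Submodule.mem_comap, Submodule.mem_comap, Submodule.mem_span_singleton]
          refine ⟨s, ?_⟩
          show s • a = ((g.1 : GLm) : Mat) *ᵥ (x : Vec)
          rw [show (x : Vec) = s • a from hs.symm, mulVec_smul, hfix])
    let inst : MulAction N (perpQuot a) :=
      { smul := fun g q => act g q
        one_smul := fun q => by
          induction q using Submodule.Quotient.induction_on with
          | _ x =>
            show act 1 _ = _
            simp only [act, Submodule.mapQ_apply]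
            congr 1
            exact Subtype.ext (by
              show (((1 : N).1 : GLm) : Mat) *ᵥ (x : Vec) = x
              rw [OneMemClass.coe_one, OneMemClass.coe_one, Units.val_one, one_mulVec])
        mul_smul := fun g g' q => by
          induction q using Submodule.Quotient.induction_on with
          | _ x =>
            show act (g * g') _ = act g (act g' _)
            simp only [act, Submodule.mapQ_apply]
            congr 1
            exact Subtype.ext (by
              show (((g * g').1 : GLm) : Mat) *ᵥ (x : Vec) =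
                ((g.1 : GLm) : Mat) *ᵥ (((g'.1 : GLm) : Mat) *ᵥ (x : Vec))
              rw [Subgroup.coe_mul, Subgroup.coe_mul, mulVec_mul_GL]) }
    have hdvd : 2 ∣ Nat.card (perpQuot a) := by
      rw [natCard_perpQuot ha]
      obtain ⟨k, hk0, hk⟩ := FiniteField.card F 2
      rw [hk, ← pow_mul]
      exact dvd_pow_self 2 (Nat.mul_ne_zero k.pos.ne' (by omega))
    have hfixed : (0 : perpQuot a) ∈ MulAction.fixedPoints N (perpQuot a) := fun g => map_zero (act g)
    haveI : Fact (Nat.Prime 2) := ⟨Nat.prime_two⟩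
    obtain ⟨q, hq, hq0⟩ := hp.exists_fixed_point_of_prime_dvd_card_of_fixed_point _ hdvd hfixed
    obtain ⟨x, rfl⟩ := Submodule.Quotient.mk_surjective _ q
    refine ⟨x.1, x.2, fun s hs => hq0 ?_, fun g hg => ?_⟩
    · rw [eq_comm, ← Submodule.Quotient.mk_zero, perpQuot_eq]
      exact ⟨s, by rw [hs]; simp⟩
    · exact perpQuot_eq.1 (hq ⟨g, hg⟩)
  -- hence every class is fixed
  let U : Submodule F Vec :=
    { carrier := {x | x ∈ P ∧ ∀ g ∈ N, ∃ s : F, ((g : GLm) : Mat) *ᵥ x - x = s • a}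
      add_mem' := fun {x y} hx hy => ⟨add_mem hx.1 hy.1, fun g hg => by
        obtain ⟨s, hs⟩ := hx.2 g hg
        obtain ⟨t, ht⟩ := hy.2 g hg
        exact ⟨s + t, by rw [mulVec_add, add_smul, ← hs, ← ht]; abel⟩⟩
      zero_mem' := ⟨zero_mem _, fun g _ => ⟨0, by simp⟩⟩
      smul_mem' := fun t x hx => ⟨P.smul_mem t hx.1, fun g hg => by
        obtain ⟨s, hs⟩ := hx.2 g hg
        exact ⟨t * s, by rw [mulVec_smul, ← smul_sub, hs, smul_smul]⟩⟩ }
  have hUmap : ∀ (k : H) x, x ∈ U → ((k : GLm) : Mat) *ᵥ x ∈ U := fun k x hx => by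
    refine ⟨hgP k x hx.1, fun g hg => ?_⟩
    obtain ⟨s, hs⟩ := hx.2 _ (hN.conj_mem g hg k⁻¹)
    refine ⟨s, ?_⟩
    rw [inv_inv, Subgroup.coe_mul, Subgroup.coe_mul, Subgroup.coe_inv, mulVec_mul_GL, mulVec_mul_GL] at hs
    have := congrArg (fun z => ((k : GLm) : Mat) *ᵥ z) hs
    simp only [mulVec_sub, mulVec_inv_cancel, mulVec_smul, hfix] at this
    exact this
  have hx₀U : x₀ ∈ U := ⟨hx₀, hx₀f⟩
  have hbig : ∀ v, B a v = 0 → B x₀ v ≠ 0 → v ∈ U := fun v hv hne => by
    have hva : B a v = 0 := hv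
    have hk : spTrv v 1 ∈ H := (hH _).2 ⟨spTrv_mem _ _, by
      rw [Symp.spTrv_apply, hva, mul_zero, zero_smul, add_zero]⟩
    have h1 := U.sub_mem (hUmap ⟨_, hk⟩ x₀ hx₀U) hx₀U
    rw [Symp.spTrv_apply, add_sub_cancel_left, one_mul] at h1
    have h2 := U.smul_mem (B x₀ v)⁻¹ h1
    rwa [smul_smul, inv_mul_cancel₀ hne, one_smul] at h2
  have hall : ∀ v, B a v = 0 → v ∈ U := fun v hv => by
    by_cases hne : B x₀ v = 0
    swap
    · exact hbig v hv hne
    obtain ⟨v₀, hav₀, hv₀⟩ := exists_dual ha hx₀a (1 : F)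
    have hv₀' : B x₀ v₀ = 1 := by rw [B_comm]; exact hv₀
    have h1 := hbig (v + v₀) (by rw [map_add, hv, hav₀, add_zero])
      (by rw [map_add, hne, hv₀', zero_add]; exact one_ne_zero)
    have h2 := hbig v₀ hav₀ (by rw [hv₀']; exact one_ne_zero)
    have h3 := U.sub_mem h1 h2
    rwa [add_sub_cancel_right] at h3
  -- identify the element
  obtain ⟨b, hab⟩ : ∃ b, B a b = 1 := by
    obtain ⟨y, hy⟩ : ∃ y, B a y ≠ 0 := by
      by_contra h
      push Not at h
      exact ha (Symp.nondeg.1 a h)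
    exact ⟨(B a y)⁻¹ • y, by rw [map_smul, smul_eq_mul, inv_mul_cancel₀ hy]⟩
  have hba : B b a = 1 := by rw [B_comm]; exact hab
  set w := ((n : GLm) : Mat) *ᵥ b + b with hw
  have haw : B a w = 0 := by
    rw [hw, map_add, hab]
    nth_rw 1 [← hfix n]
    rw [hsymp, hab, CharTwo.add_self_eq_zero]
  refine ⟨w, B b w, haw, gl_ext fun x => ?_⟩
  have hxP : B a (x + B a x • b) = 0 := by
    rw [map_add, map_smul, hab, smul_eq_mul, mul_one, CharTwo.add_self_eq_zero]
  obtain ⟨s, hs⟩ := (hall _ hxP).2 n hn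
  have hnb : ((n : GLm) : Mat) *ᵥ b = b + w := by
    rw [hw, add_comm _ b, ← add_assoc, ← two_smul F b, CharTwo.two_eq_zero, zero_smul, zero_add]
  have hnx : ((n : GLm) : Mat) *ᵥ (x + B a x • b) = (x + B a x • b) + s • a := by
    rw [← hs]; abel
  have hsv : s = B (x + B a x • b) w := by
    have h := hsymp n (x + B a x • b) b
    rw [hnb, hnx, map_add (B), LinearMap.add_apply, map_smul (B), LinearMap.smul_apply, map_add (B a),
      hab, haw, add_zero, smul_eq_mul, mul_one, map_add (B (x + B a x • b))] at h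
    rw [add_assoc] at h
    exact (CharTwo.add_eq_zero.1 (add_eq_left.1 h)).symm
  have key : ((n : GLm) : Mat) *ᵥ x = ((n : GLm) : Mat) *ᵥ (x + B a x • b) + B a x • ((n : GLm) : Mat) *ᵥ b := by
    rw [mulVec_add, mulVec_smul, add_assoc, ← two_smul F (B a x • _), CharTwo.two_eq_zero, zero_smul,
      add_zero]
  rw [key, hnx, hnb, hsv, el_apply haw]
  simp only [map_add, map_smul, LinearMap.add_apply, LinearMap.smul_apply, smul_eq_mul, B_comm a x]
  match_scalars <;> ring_nf
  linear_combination (B a x) * CharTwo.two_eq_zero (R := F)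

/-- transvections move along their centre only -/
theorem rank_spTrv {a : Vec} (ha : a ≠ 0) {α : F} (hα : α ≠ 0) :
    (((spTrv a α : GLm) : Mat) - 1).rank = 1 := by
  obtain ⟨y, hy⟩ : ∃ y, B y a ≠ 0 := by
    by_contra h
    push Not at h
    exact ha (Symp.nondeg.1 a fun z => by rw [B_comm]; exact h z)
  have h : LinearMap.range (((spTrv a α : GLm) : Mat) - 1).mulVecLin = Submodule.span F {a} := by
    refine le_antisymm ?_ ((Submodule.span_singleton_le_iff_mem _ _).2
      ⟨(α * B y a)⁻¹ • y, ?_⟩)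
    · rintro _ ⟨x, rfl⟩
      rw [Matrix.mulVecLin_apply, sub_mulVec, one_mulVec, Symp.spTrv_apply, add_sub_cancel_left]
      exact Submodule.smul_mem _ _ (Submodule.mem_span_singleton_self a)
    · rw [Matrix.mulVecLin_apply, sub_mulVec, one_mulVec, Symp.spTrv_apply, add_sub_cancel_left,
        map_smul, LinearMap.smul_apply, smul_eq_mul, mul_left_comm,
        inv_mul_cancel₀ (mul_ne_zero hα hy), one_smul]
  rw [Matrix.rank, h, finrank_span_singleton ha]

/-- a radical subgroup of full order without transvections covers the radical -/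
theorem lift_of_card (hm : 2 ≤ m) {a : Vec} (ha : a ≠ 0) {H : Subgroup GLm}
    (hH : ∀ g, g ∈ H ↔ g ∈ Cfsg.spGL m F ∧ (g : Mat) *ᵥ a = a) (N : Subgroup H) [N.Normal]
    (hp : IsPGroup 2 N) {X : Subgroup GLm} (hX : X ≤ N.map H.subtype)
    (hcard : Nat.card X = Fintype.card F ^ (2 * m - 2))
    (hntv : ∀ x ∈ X, (((x : GLm) : Mat) - 1).rank ≠ 1) (w : Vec) (hw : B a w = 0) :
    ∃ α, el a w α ∈ X := by
  classical
  have hel : ∀ x : X, ∃ w α, B a w = 0 ∧ (x : GLm) = el a w α := fun x => by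
    obtain ⟨n, hn, e⟩ := hX x.2
    obtain ⟨w, α, h, h'⟩ := exists_el hm ha hH N hp hn
    exact ⟨w, α, h, e.symm.trans h'⟩
  choose W A hW hx using hel
  let Ψ : X → perpQuot a := fun x => Submodule.Quotient.mk ⟨W x, LinearMap.mem_ker.2 (hW x)⟩
  have hinj : Function.Injective Ψ := fun x y h => by
    obtain ⟨s, hs⟩ := perpQuot_eq.1 h
    have hy : (y : GLm) = el a (W x) (A y) := by
      rw [hx y, ← el_add_self (hW y) s]
      congr 1
      rw [← hs, add_sub_cancel]
    have hm' := X.mul_mem x.2 y.2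
    rw [hx x, hy, el_mul (hW x) (hW x), Symp.B_self, add_zero, ← two_smul F (W x),
      CharTwo.two_eq_zero, zero_smul, el_zero] at hm'
    refine Subtype.ext ?_
    rw [hx x, hy]
    congr 1
    by_contra hne
    exact hntv _ hm' (rank_spTrv ha fun h0 => hne (CharTwo.add_eq_zero.1 h0))
  haveI : Finite X := Nat.finite_of_card_ne_zero (hcard ▸ pow_ne_zero _ Fintype.card_ne_zero)
  obtain ⟨x, hxw⟩ := (Nat.bijective_iff_injective_and_card Ψ).2
    ⟨hinj, by rw [hcard, natCard_perpQuot ha]⟩ |>.2 (Submodule.Quotient.mk ⟨w, LinearMap.mem_ker.2 hw⟩)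
  obtain ⟨s, hs⟩ := perpQuot_eq.1 hxw
  refine ⟨A x, ?_⟩
  rw [← el_add_self hw s, show w + s • a = W x by rw [← hs, add_sub_cancel], ← hx x]
  exact x.2

end Cfsg.Agent.Forms.Max.TwoRoot
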